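import Cfsg.Agent.Lib.Helper8.F4T.Reach
import Cfsg.Agent.Lib.Helper5.Chev.Core
import Cfsg.Agent.Lib.Helper5.Chev.NormalAll
import Mathlib

/-!
# The diagonal elements of the large Ree group (helper8)

`H ∩ fixR = range tauT` lies in the twisted group, hence `|H¹| = (q - 1)²`.
-/

set_option autoImplicit false
set_option maxRecDepth 100000

namespace Cfsg.Agent.Lib.Helper8.F4T

open Cfsg.Lie Cfsg.Agent.Lib.Helper5.Chev Cfsg.Agent.Lib.Helper5.GA Cfsg.Agent.Lib.Helper5.Tw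
open Cfsg.Agent.Lib.Helper5.Frob Cfsg.Agent.Lib.Helper5.Ree Cfsg.Agent.Lib.Helper5.St
open scoped Matrix

section

variable {K : Type*} [Field K] [Fintype K] [CharP K 2] {m : ℕ}

theorem tauT_mem_diag (hK : Fintype.card K = 2 ^ (2 * m + 1)) (μ : Kˣ × Kˣ) :
    tauT K m μ ∈ chevF4.diagonalSubgroup K :=
  ((diag_fixed_iff hK _).2 ⟨μ, rfl⟩).1

theorem tauT_mem_fixR (hK : Fintype.card K = 2 ^ (2 * m + 1)) (μ : Kˣ × Kˣ) :
    tauT K m μ ∈ fixR hK :=
  ((diag_fixed_iff hK _).2 ⟨μ, rfl⟩).2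

omit [Fintype K] [CharP K 2] in
theorem prod_I4 {M : Type*} [CommMonoid M] (f : Fin chevF4.rank → M) :
    ∏ i, f i = f j0 * f j1 * f j2 * f j3 :=
  Fin.prod_univ_four f

/-- the characters of an element of `H ∩ fixR` -/
theorem tauT_char (hK : Fintype.card K = 2 ^ (2 * m + 1)) (μ : Kˣ × Kˣ) : ∃ χ : ℕ → Kˣ,
    (∀ s < chevF4.nroots, ∀ u : K, tauT K m μ * (hadd4 K).xU s u * (tauT K m μ)⁻¹
      = (hadd4 K).xU s ((χ s : K) * u)) ∧
    ∀ (v : ℕ) (hv : v < chevF4.nroots), χ v =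
      (Units.map (ph1 K m : K →* K) μ.1) ^ (cartanM chevF4 j0 ⟨v, hv⟩) *
      (Units.map (ph1 K m : K →* K) μ.2) ^ (cartanM chevF4 j1 ⟨v, hv⟩) *
      μ.2 ^ (cartanM chevF4 j2 ⟨v, hv⟩) * μ.1 ^ (cartanM chevF4 j3 ⟨v, hv⟩) := by
  obtain ⟨χ, h1, h2⟩ := diag_conj_char chevF4 hD4 (tauT K m μ) (tauT_mem_diag hK μ)
  refine ⟨χ, h2, ?_⟩
  intro v hv
  rw [tauT_apply, hU_apply, diagU_val] at h1
  unfold ChevalleyDatum.charDiag at h1
  have h3 := Matrix.diagonal_injective h1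
  have h4 := congrFun h3 (Sum.inr ⟨v, hv⟩)
  simp only [Sum.elim_inr] at h4
  have h5 : χ v = zact (cartanM chevF4) (tauC K m μ) ⟨v, hv⟩ := Units.ext h4.symm
  rw [h5, zact_apply, prod_I4]
  unfold tauC
  rw [c4_j0, c4_j1, c4_j2, c4_j3]

end

section nn

variable {K : Type*} [Field K] [CharP K 2]

theorem c33_24 (A B : K) : Commute ((hadd4 K).xU 33 A) ((hadd4 K).xU 24 B) := (P1 K).comm A B
theorem c14_23 (A B : K) : Commute ((hadd4 K).xU 14 A) ((hadd4 K).xU 23 B) := (P1n K).comm A B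
theorem c24_14 (A B : K) : Commute ((hadd4 K).xU 24 A) ((hadd4 K).xU 14 B) :=
  commute_of_check 2 DataF4.agrees (hadd4 K) 24 14 ck_orth.1 A B
theorem c23_33 (A B : K) : Commute ((hadd4 K).xU 23 A) ((hadd4 K).xU 33 B) :=
  commute_of_check 2 DataF4.agrees (hadd4 K) 23 33 ck_orth.2 A B

theorem nUt33 (s : K) : nUt (hadd4 K) 33 s
    = (hadd4 K).xU 33 s * (hadd4 K).xU 14 (s⁻¹) * (hadd4 K).xU 33 s := by
  unfold nUt
  rw [CharTwo.neg_eq]
  rfl

theorem nUt24 (s : K) : nUt (hadd4 K) 24 s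
    = (hadd4 K).xU 24 s * (hadd4 K).xU 23 (s⁻¹) * (hadd4 K).xU 24 s := by
  unfold nUt
  rw [CharTwo.neg_eq]
  rfl

theorem nUt_comm (s t : K) : Commute (nUt (hadd4 K) 33 s) (nUt (hadd4 K) 24 t) := by
  rw [nUt33, nUt24]
  have h1 : ∀ B : K, Commute ((hadd4 K).xU 33 s * (hadd4 K).xU 14 (s⁻¹) * (hadd4 K).xU 33 s)
      ((hadd4 K).xU 24 B) := fun B =>
    ((c33_24 s B).mul_left (c24_14 B _).symm).mul_left (c33_24 s B)
  have h2 : ∀ B : K, Commute ((hadd4 K).xU 33 s * (hadd4 K).xU 14 (s⁻¹) * (hadd4 K).xU 33 s)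
      ((hadd4 K).xU 23 B) := fun B =>
    (((c23_33 B s).symm).mul_left (c14_23 _ B)).mul_left (c23_33 B s).symm
  exact ((h1 t).mul_right (h2 _)).mul_right (h1 t)

/-- the product `n_{p₁}(s) n_{p₄}(t)` as a product of three pairs -/
theorem nn_eq (s t : K) : nUt (hadd4 K) 33 s * nUt (hadd4 K) 24 t
    = ((hadd4 K).xU 33 s * (hadd4 K).xU 24 t) * ((hadd4 K).xU 14 (s⁻¹) * (hadd4 K).xU 23 (t⁻¹)) *
      ((hadd4 K).xU 33 s * (hadd4 K).xU 24 t) := by
  rw [nUt33, nUt24]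
  exact six_comm _ _ _ _ (c33_24 s t).symm (c24_14 t _) (c23_33 _ s)

end nn

section

variable {K : Type*} [Field K] [Fintype K] [CharP K 2] {m : ℕ}

omit [Fintype K] in
theorem nn_mem (a : K) :
    nUt (hadd4 K) 33 (ph1 K m a) * nUt (hadd4 K) 24 a ∈ twistedF4 K (2 ^ m) := by
  rw [nn_eq]
  have e1 : (hadd4 K).xU 33 (ph1 K m a) * (hadd4 K).xU 24 a = (hadd4 K).wordU ((P1 K).rw m a) := by
    show _ = (hadd4 K).wordU [((33 : ℕ), ph1 K m a), (24, a)]
    simp only [wordU_cons, wordU_nil, mul_one]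
  have e2 : (hadd4 K).xU 14 ((ph1 K m a)⁻¹) * (hadd4 K).xU 23 (a⁻¹)
      = (hadd4 K).wordU ((P1n K).rw m a⁻¹) := by
    show _ = (hadd4 K).wordU [((14 : ℕ), ph1 K m a⁻¹), (23, a⁻¹)]
    simp only [wordU_cons, wordU_nil, mul_one, map_inv₀]
  rw [e1, e2, P1_rw, P1n_rw]
  exact Subgroup.mul_mem _ (Subgroup.mul_mem _ (pairU_mem_twisted _ a) (pairV_mem_twisted _ a⁻¹))
    (pairU_mem_twisted _ a)

omit [Fintype K] in
theorem simple_j0 : chevF4.simple (j0 : Fin chevF4.rank) = 33 := rfl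
omit [Fintype K] in
theorem simple_j3 : chevF4.simple (j3 : Fin chevF4.rank) = 24 := rfl

omit [Fintype K] in
/-- the elements of the first factor of `H ∩ fixR` lie in the twisted group -/
theorem tauT_fst_mem (a : Kˣ) : tauT K m (a, 1) ∈ twistedF4 K (2 ^ m) := by
  have e0 : tauC K m (a, 1) = Pi.mulSingle j0 (Units.map (ph1 K m : K →* K) a) *
      Pi.mulSingle j3 a := by
    unfold tauC
    rw [c4_eq_single_mul]
    simp only [map_one, Pi.mulSingle_one, mul_one]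
  have e1 : tauT K m (a, 1) = nUt (hadd4 K) 33 (ph1 K m (a : K)) * nUt (hadd4 K) 33 (-1) *
      (nUt (hadd4 K) 24 (a : K) * nUt (hadd4 K) 24 (-1)) := by
    rw [tauT_apply, e0, map_mul, hU_single hD4 (hadd4 K), hU_single hD4 (hadd4 K)]
    rfl
  have e2 : tauT K m (a, 1) = (nUt (hadd4 K) 33 (ph1 K m (a : K)) * nUt (hadd4 K) 24 (a : K)) *
      (nUt (hadd4 K) 33 (ph1 K m (1 : K)) * nUt (hadd4 K) 24 (1 : K)) := by
    rw [e1, map_one, CharTwo.neg_eq]
    simp only [mul_assoc]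
    rw [(nUt_comm (1 : K) (a : K)).left_comm]
  rw [e2]
  exact Subgroup.mul_mem _ (nn_mem _) (nn_mem _)

end

section snd

variable {K : Type*} [Field K] [Fintype K] [CharP K 2] {m : ℕ}

omit [Fintype K] [CharP K 2] in
theorem nJ2_mono : nJ2 K ∈ chevF4.monomialSubgroup K := nWordU_mem _ _ _

omit [Fintype K] [CharP K 2] in
theorem nJ1_mono : nJ1 K ∈ chevF4.monomialSubgroup K := nWordU_mem _ _ _

omit [Fintype K] [CharP K 2] in
/-- `N` normalizes `H` -/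
theorem conj_diag_mem (n : GL chevF4.Idx K) (hn : n ∈ chevF4.monomialSubgroup K)
    (h : GL chevF4.Idx K) (hh : h ∈ chevF4.diagonalSubgroup K) :
    n * h * n⁻¹ ∈ chevF4.diagonalSubgroup K := by
  have hNH : chevF4.monomialSubgroup K ≤
      Subgroup.normalizer (chevF4.diagonalSubgroup K : Set (GL chevF4.Idx K)) :=
    (Subgroup.normal_subgroupOf_iff_le_normalizer le_sup_left).1 (diagonal_normal_all chevF4 hD4)
  exact (Subgroup.mem_normalizer_iff.1 (hNH hn) h).1 hh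

omit [Fintype K] in
theorem wJ2_lt : ∀ i ∈ wJ2, i < chevF4.rank := by decide

omit [Fintype K] in
theorem wJ1_lt : ∀ i ∈ wJ1, i < chevF4.rank := by decide

omit [Fintype K] in
theorem tauT_split (μ : Kˣ × Kˣ) : tauT K m (1, μ.2) = (tauT K m (μ.1, 1))⁻¹ * tauT K m μ := by
  rw [← map_inv, ← map_mul]
  congr 1
  ext <;> simp

omit [Fintype K] in
theorem tauT_snd_pow (x : Kˣ) (n : ℕ) : tauT K m (1, x ^ n) = (tauT K m (1, x)) ^ n := by
  rw [← map_pow]
  congr 1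
  ext <;> simp

omit [Fintype K] in
theorem units_map_ph1 (x : Kˣ) : Units.map (ph1 K m : K →* K) x = x ^ 2 ^ m := by
  apply Units.ext
  rw [Units.coe_map, Units.val_pow_eq_pow_val]
  exact ph1_apply _

/-- the elements of the second factor of `H ∩ fixR` lie in the twisted group -/
theorem tauT_snd_mem (hK : Fintype.card K = 2 ^ (2 * m + 1)) (a : Kˣ) :
    tauT K m (1, a) ∈ twistedF4 K (2 ^ m) := by
  have hn : nJ2 K ∈ twistedF4 K (2 ^ m) := nJ2_mem_twisted _ (two_pow_ne m)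
  have hgT : nJ2 K * tauT K m (a, 1) * (nJ2 K)⁻¹ ∈ twistedF4 K (2 ^ m) :=
    Subgroup.mul_mem _ (Subgroup.mul_mem _ hn (tauT_fst_mem a)) (Subgroup.inv_mem _ hn)
  have hgD : nJ2 K * tauT K m (a, 1) * (nJ2 K)⁻¹ ∈ chevF4.diagonalSubgroup K :=
    conj_diag_mem _ nJ2_mono _ (tauT_mem_diag hK _)
  obtain ⟨μ, hμ⟩ := (diag_fixed_iff hK _).1 ⟨hgD, twisted_le_fixR hK hgT⟩
  obtain ⟨χ, hχ, hχv⟩ := tauT_char hK μ
  obtain ⟨χ', hχ', hχv'⟩ := tauT_char hK (a, 1)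
  have hw : wW BsF4.Bs wJ2 38 = 39 := by decide +kernel
  have c2 : ∀ u : K, nJ2 K * (hadd4 K).xU 38 u * (nJ2 K)⁻¹ = (hadd4 K).xU 39 u := by
    intro u
    rw [← hw]
    exact conj_xU2 wJ2 wJ2_lt 38 (by decide) u
  have c3 : tauT K m μ * (hadd4 K).xU 39 1 * (tauT K m μ)⁻¹
      = (hadd4 K).xU 39 ((χ' 38 : K) * 1) := by
    calc tauT K m μ * (hadd4 K).xU 39 1 * (tauT K m μ)⁻¹
        = nJ2 K * (tauT K m (a, 1) * (hadd4 K).xU 38 1 * (tauT K m (a, 1))⁻¹) * (nJ2 K)⁻¹ := by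
          rw [hμ, ← c2 1]
          group
      _ = nJ2 K * (hadd4 K).xU 38 ((χ' 38 : K) * 1) * (nJ2 K)⁻¹ := by
          rw [hχ' 38 (by decide) 1]
      _ = _ := c2 _
  rw [hχ 39 (by decide) 1] at c3
  have c4' := xU_injective (hadd4 K) 39 (xInj_all chevF4 hD4 39 (by decide)) _ _ c3
  rw [mul_one, mul_one] at c4'
  have c5 : χ 39 = χ' 38 := Units.ext c4'
  have a0 : cartanM chevF4 j0 ⟨39, by decide⟩ = 0 := by decide
  have a1 : cartanM chevF4 j1 ⟨39, by decide⟩ = -1 := by decide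
  have a2 : cartanM chevF4 j2 ⟨39, by decide⟩ = 1 := by decide
  have a3 : cartanM chevF4 j3 ⟨39, by decide⟩ = 0 := by decide
  have b0 : cartanM chevF4 j0 ⟨38, by decide⟩ = 0 := by decide
  have b1 : cartanM chevF4 j1 ⟨38, by decide⟩ = 1 := by decide
  have b2 : cartanM chevF4 j2 ⟨38, by decide⟩ = -1 := by decide
  have b3 : cartanM chevF4 j3 ⟨38, by decide⟩ = 1 := by decide
  rw [hχv 39 (by decide), hχv' 38 (by decide), a0, a1, a2, a3, b0, b1, b2, b3] at c5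
  simp only [zpow_zero, zpow_one, one_mul, mul_one, map_one, zpow_neg] at c5
  have c6 : a = (Units.map (ph1 K m : K →* K) μ.2)⁻¹ * μ.2 := by rw [c5, inv_one, one_mul]
  have h2 : tauT K m (1, μ.2) ∈ twistedF4 K (2 ^ m) := by
    rw [tauT_split, hμ]
    exact Subgroup.mul_mem _ (Subgroup.inv_mem _ (tauT_fst_mem _)) hgT
  have h3 : tauT K m (1, Units.map (ph1 K m : K →* K) μ.2) ∈ twistedF4 K (2 ^ m) := by
    rw [units_map_ph1, tauT_snd_pow]
    exact Subgroup.pow_mem _ h2 _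
  have h4 : tauT K m (1, a)
      = (tauT K m (1, Units.map (ph1 K m : K →* K) μ.2))⁻¹ * tauT K m (1, μ.2) := by
    rw [← map_inv, ← map_mul]
    congr 1
    ext
    · simp
    · simp only [Prod.snd_mul, Prod.snd_inv]
      rw [c6]
  rw [h4]
  exact Subgroup.mul_mem _ (Subgroup.inv_mem _ h3) h2

/-- `H ∩ fixR` lies in the twisted group -/
theorem tauT_mem_twisted (hK : Fintype.card K = 2 ^ (2 * m + 1)) (μ : Kˣ × Kˣ) :
    tauT K m μ ∈ twistedF4 K (2 ^ m) := by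
  have e : tauT K m μ = tauT K m (μ.1, 1) * tauT K m (1, μ.2) := by
    rw [← map_mul]
    congr 1
    ext <;> simp
  rw [e]
  exact Subgroup.mul_mem _ (tauT_fst_mem _) (tauT_snd_mem hK _)

theorem diag_fixed_le_twisted (hK : Fintype.card K = 2 ^ (2 * m + 1)) :
    chevF4.diagonalSubgroup K ⊓ fixR hK ≤ twistedF4 K (2 ^ m) := by
  intro g hg
  obtain ⟨μ, rfl⟩ := (diag_fixed_iff hK g).1 hg
  exact tauT_mem_twisted hK μ

theorem diag_twisted_eq (hK : Fintype.card K = 2 ^ (2 * m + 1)) :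
    chevF4.diagonalSubgroup K ⊓ twistedF4 K (2 ^ m) = chevF4.diagonalSubgroup K ⊓ fixR hK := by
  apply le_antisymm
  · exact inf_le_inf_left _ (twisted_le_fixR hK)
  · exact le_inf inf_le_left (diag_fixed_le_twisted hK)

/-- the elements of `H` in the twisted group -/
theorem diag_twisted_iff (hK : Fintype.card K = 2 ^ (2 * m + 1)) (g : GL chevF4.Idx K) :
    g ∈ chevF4.diagonalSubgroup K ⊓ twistedF4 K (2 ^ m) ↔ g ∈ (tauT K m).range := by
  rw [diag_twisted_eq hK]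
  exact diag_fixed_iff hK g

/-- the number of elements of `H` in the twisted group -/
theorem card_diag_twisted (hK : Fintype.card K = 2 ^ (2 * m + 1)) :
    Nat.card ↥(chevF4.diagonalSubgroup K ⊓ twistedF4 K (2 ^ m)) = (2 ^ (2 * m + 1) - 1) ^ 2 := by
  rw [diag_twisted_eq hK]
  exact card_diag_fixed hK

end snd

end Cfsg.Agent.Lib.Helper8.F4T
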