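import Cfsg.Agent.Lib.Helper8.F4T.U1
import Cfsg.Agent.Lib.Helper8.F4T.Bruhat
import Cfsg.Agent.Lib.Helper5.Ree.H1
import Cfsg.Agent.Lib.Helper5.Chev.MonoB
import Cfsg.Agent.Lib.Helper5.Chev.CxF4
import Mathlib

/-!
# The representatives of the two reflections of the Weyl group of the large Ree group (helper8)

`n_{J₁} = n_{p₁} n_{p₄}` and `n_{J₂} = n_{p₂} n_{p₃} n_{p₂} n_{p₃}` lie in the twisted group.
-/

set_option autoImplicit false
set_option maxRecDepth 100000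

namespace Cfsg.Agent.Lib.Helper8.F4T

open Cfsg.Lie Cfsg.Agent.Lib.Helper5.Chev Cfsg.Agent.Lib.Helper5.GA Cfsg.Agent.Lib.Helper5.Tw
open Cfsg.Agent.Lib.Helper5.Frob Cfsg.Agent.Lib.Helper5.Ree
open scoped Matrix

theorem ck_orth : commb 2 DataF4.fd 24 14 = true ∧ commb 2 DataF4.fd 23 33 = true := by
  decide +kernel

/-- the word of `n_{J₂}` in the generators of the twisted group, over the prime field -/
theorem ck_nJ2 : mlEqb 2 DataF4.fd
    [(28, 1, 0, 0, 0), (30, 1, 0, 0, 0), (20, 1, 0, 0, 0), (22, 1, 0, 0, 0), (17, 1, 0, 0, 0),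
      (27, 1, 0, 0, 0), (25, 1, 0, 0, 0), (28, 1, 0, 0, 0)]
    [(27, 1, 0, 0, 0), (20, 1, 0, 0, 0), (27, 1, 0, 0, 0), (25, 1, 0, 0, 0), (22, 1, 0, 0, 0),
      (25, 1, 0, 0, 0), (27, 1, 0, 0, 0), (20, 1, 0, 0, 0), (27, 1, 0, 0, 0), (25, 1, 0, 0, 0),
      (22, 1, 0, 0, 0), (25, 1, 0, 0, 0)] = true := by decide +kernel

section

variable {K : Type*} [Field K]

theorem nUi_eq_nUt (i : ℕ) (hi : i < chevF4.rank) :
    nUi DataF4.agrees (hadd4 K) i = nUt (hadd4 K) (chevF4.simple i) 1 := by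
  apply Units.ext
  rw [nUi_val DataF4.agrees (hadd4 K) hi, nUt_val]

/-- the word of the first reflection -/
def wJ1 : List ℕ := [0, 3]

/-- the word of the second reflection -/
def wJ2 : List ℕ := [1, 2, 1, 2]

/-- the representative of the first reflection -/
noncomputable def nJ1 (K : Type*) [Field K] : GL chevF4.Idx K :=
  nWordU DataF4.agrees (hadd4 K) wJ1

/-- the representative of the second reflection -/
noncomputable def nJ2 (K : Type*) [Field K] : GL chevF4.Idx K :=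
  nWordU DataF4.agrees (hadd4 K) wJ2

theorem nJ1_eq : nJ1 K = nUt (hadd4 K) 33 1 * nUt (hadd4 K) 24 1 := by
  unfold nJ1 nWordU wJ1
  simp only [List.map_cons, List.map_nil, List.prod_cons, List.prod_nil, mul_one]
  rw [nUi_eq_nUt 0 (by decide), nUi_eq_nUt 3 (by decide)]
  rfl

theorem nJ2_eq : nJ2 K = nUt (hadd4 K) 27 1 * (nUt (hadd4 K) 25 1 *
    (nUt (hadd4 K) 27 1 * nUt (hadd4 K) 25 1)) := by
  unfold nJ2 nWordU wJ2
  simp only [List.map_cons, List.map_nil, List.prod_cons, List.prod_nil, mul_one]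
  rw [nUi_eq_nUt 1 (by decide), nUi_eq_nUt 2 (by decide)]
  rfl

variable [CharP K 2]

theorem neg_one_inv2 : -(1 : K)⁻¹ = 1 := by
  rw [inv_one, CharTwo.neg_eq]

theorem nJ1_mem_twisted (e : ℕ) : nJ1 K ∈ twistedF4 K e := by
  have h1 : ∀ A B : K, Commute ((hadd4 K).xU 33 A) ((hadd4 K).xU 24 B) := (P1 K).comm
  have h2 := commute_of_check 2 DataF4.agrees (hadd4 K) 24 14 ck_orth.1
  have h3 := commute_of_check 2 DataF4.agrees (hadd4 K) 23 33 ck_orth.2
  have e1 : nJ1 K = (hadd4 K).wordU (f4PairWord e f4p1 f4p4 1) *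
      (hadd4 K).wordU (f4PairWord e f4m1 f4m4 1) * (hadd4 K).wordU (f4PairWord e f4p1 f4p4 1) := by
    rw [nJ1_eq]
    unfold nUt
    rw [neg_one_inv2]
    show (hadd4 K).xU 33 1 * (hadd4 K).xU 14 1 * (hadd4 K).xU 33 1 *
      ((hadd4 K).xU 24 1 * (hadd4 K).xU 23 1 * (hadd4 K).xU 24 1) = _
    rw [six_comm _ _ _ _ (h1 1 1).symm (h2 1 1) (h3 1 1)]
    unfold f4PairWord
    simp only [wordU_cons, wordU_nil, mul_one, one_pow]
    rfl
  rw [e1]
  exact Subgroup.mul_mem _ (Subgroup.mul_mem _ (pairU_mem_twisted e 1) (pairV_mem_twisted e 1))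
    (pairU_mem_twisted e 1)

theorem nJ2_mem_twisted (e : ℕ) (he : e ≠ 0) : nJ2 K ∈ twistedF4 K e := by
  have e1 : nJ2 K = (hadd4 K).wordU (b2ClassWord e f4a f4b f4ab f4aab 0 1) *
      (hadd4 K).wordU (b2ClassWord e f4ma f4mb f4mab f4maab 1 1) *
      (hadd4 K).wordU (b2ClassWord e f4a f4b f4ab f4aab 1 0) := by
    rw [nJ2_eq]
    have ck := wordU_eq_of_ml 2 DataF4.agrees (hadd4 K) _ _ ck_nJ2 (1 : K) 1 1
    simp only [mlEval, List.map_cons, List.map_nil, wordU_cons, wordU_nil, pow_zero, mul_one,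
      Int.cast_one] at ck
    unfold nUt b2ClassWord
    rw [neg_one_inv2]
    have h0 : (0 : K) ^ e = 0 := zero_pow he
    have h0' : (0 : K) ^ (e + 1) = 0 := zero_pow (by omega)
    have h0'' : (0 : K) ^ (2 * e) = 0 := zero_pow (by omega)
    have h11 : (1 : K) + 1 = 0 := CharTwo.add_self_eq_zero 1
    show _ = (hadd4 K).wordU [((27 : ℕ), _), (25, _), (28, _), (30, _)] *
      (hadd4 K).wordU [((20 : ℕ), _), (22, _), (19, _), (17, _)] *
      (hadd4 K).wordU [((27 : ℕ), _), (25, _), (28, _), (30, _)]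
    simp only [wordU_cons, wordU_nil, mul_one, one_pow, h0, h0', h0'', h11, zero_add, add_zero,
      xU_zero4, one_mul]
    show (hadd4 K).xU 27 1 * (hadd4 K).xU 20 1 * (hadd4 K).xU 27 1 *
      ((hadd4 K).xU 25 1 * (hadd4 K).xU 22 1 * (hadd4 K).xU 25 1 *
      ((hadd4 K).xU 27 1 * (hadd4 K).xU 20 1 * (hadd4 K).xU 27 1 *
      ((hadd4 K).xU 25 1 * (hadd4 K).xU 22 1 * (hadd4 K).xU 25 1))) = _
    simp only [mul_assoc] at ck ⊢
    exact ck.symm
  rw [e1]
  exact Subgroup.mul_mem _ (Subgroup.mul_mem _ (b2U_mem_twisted e 0 1) (b2V_mem_twisted e 1 1))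
    (b2U_mem_twisted e 1 0)

end

end Cfsg.Agent.Lib.Helper8.F4T
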