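import Cfsg.Agent.Lib.Helper8.F4T.Cells
import Cfsg.Agent.Lib.Helper5.F4W.N1
import Mathlib

/-!
# The order of the large Ree group (helper8)

The sixteen cells `U¹ n_w H¹ U_w¹`, `w ∈ W¹`, partition the twisted group.
-/

set_option autoImplicit false
set_option maxRecDepth 100000

namespace Cfsg.Agent.Lib.Helper8.F4T

open Cfsg.Lie Cfsg.Agent.Lib.Helper5.Chev Cfsg.Agent.Lib.Helper5.GA Cfsg.Agent.Lib.Helper5.Tw
open Cfsg.Agent.Lib.Helper5.Frob Cfsg.Agent.Lib.Helper5.Ree Cfsg.Agent.Lib.Helper5.St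
open Cfsg.Agent.Lib.Helper5.F4W
open scoped Matrix

/-- a representative of each class of positive roots -/
def blockRep : Fin 8 → ℕ := ![24, 26, 43, 41, 45, 31, 32, 25]

/-- the classes made negative by an element of `W¹` -/
def bOf (g : DihedralGroup 8) : Fin 8 → Bool := fun j => invW (wd g) (blockRep j)

/-- the dimension of the cell of an element of `W¹` -/
def aOf (g : DihedralGroup 8) : ℕ :=
  (Finset.univ.filter fun i : Fin 12 => bOf g (blockIdx i) = true).card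

theorem inv_eq_Pb : ∀ g : DihedralGroup 8, ∀ r ∈ L0, invW (wd g) r = Pb (bOf g) r := by
  decide +kernel

theorem good_all : ∀ g : DihedralGroup 8, GoodL chevF4 (L0.filter (Pb (bOf g))) := by
  decide +kernel

theorem aOf_multiset : (Finset.univ : Finset (DihedralGroup 8)).val.map aOf
    = ({0, 1, 3, 4, 6, 7, 9, 10, 2, 3, 5, 6, 8, 9, 11, 12} : Multiset ℕ) := by
  decide +kernel

theorem sum_pow_aOf (x : ℕ) : ∑ g : DihedralGroup 8, x ^ aOf g
    = (x + 1) * (x ^ 2 + 1) * (x ^ 3 + 1) * (x ^ 6 + 1) := by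
  have h1 : ∑ g : DihedralGroup 8, x ^ aOf g
      = (((Finset.univ : Finset (DihedralGroup 8)).val.map aOf).map fun k => x ^ k).sum := by
    rw [Multiset.map_map]
    rfl
  rw [h1, aOf_multiset]
  simp only [Multiset.insert_eq_cons, Multiset.map_cons, Multiset.map_singleton,
    Multiset.sum_cons, Multiset.sum_singleton]
  ring

section

variable {K : Type*} [Field K] [Fintype K] [CharP K 2] {m : ℕ}

/-- the fixed elements of `U_w⁻` -/
noncomputable def Uw (hK : Fintype.card K = 2 ^ (2 * m + 1)) (g : DihedralGroup 8) :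
    Subgroup (GL chevF4.Idx K) :=
  UL K chevF4 (L0.filter (invW (wd g))) ⊓ fixR hK

omit [Fintype K] [CharP K 2] in
theorem wd_lt' (g : DihedralGroup 8) : ∀ i ∈ wd g, i < chevF4.rank := wd_lt g

theorem Uw_eq (hK : Fintype.card K = 2 ^ (2 * m + 1)) (g : DihedralGroup 8)
    (h : GL chevF4.Idx K) (hh : h ∈ chevF4.diagonalSubgroup K) :
    Subgroup.closure (unegSet K chevF4 (nW K (wd g) * h)) ⊓ fixR hK = Uw hK g := by
  unfold Uw nW
  rw [uneg_eq_UL (wd g) (wd_lt' g) h hh]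

theorem card_Uw (hK : Fintype.card K = 2 ^ (2 * m + 1)) (g : DihedralGroup 8) :
    Nat.card ↥(Uw hK g) = (2 ^ (2 * m + 1)) ^ aOf g := by
  unfold Uw
  rw [List.filter_congr (inv_eq_Pb g), card_UL_fix hK (bOf g) (good_all g)]
  congr 1
  rw [Nat.card_eq_fintype_card, Fintype.card_subtype]
  rfl

theorem Uw_le_pos (hK : Fintype.card K = 2 ^ (2 * m + 1)) (g : DihedralGroup 8) :
    Uw hK g ≤ chevF4.posUnipotent K := by
  intro u hu
  have h1 : u ∈ Subgroup.closure (unegSet K chevF4 (nW K (wd g) * 1)) ⊓ fixR hK := by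
    rw [Uw_eq hK g 1 (Subgroup.one_mem _)]
    exact hu
  exact uneg_le_pos chevF4 _ h1.1

theorem Uw_le_twisted (hK : Fintype.card K = 2 ^ (2 * m + 1)) (g : DihedralGroup 8) :
    Uw hK g ≤ twistedF4 K (2 ^ m) := fun _ hu =>
  pos_fixed_le_twisted hK ⟨Uw_le_pos hK g hu, hu.2⟩

/-- a cell -/
def Cell (hK : Fintype.card K = 2 ^ (2 * m + 1)) (g : DihedralGroup 8) : Type _ :=
  ↥(chevF4.posUnipotent K ⊓ twistedF4 K (2 ^ m)) ×
    ↥(chevF4.diagonalSubgroup K ⊓ twistedF4 K (2 ^ m)) × ↥(Uw hK g)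

/-- the parametrisation of the twisted group by the sixteen cells -/
noncomputable def cellMap (hK : Fintype.card K = 2 ^ (2 * m + 1)) :
    (Σ g : DihedralGroup 8, Cell hK g) → ↥(twistedF4 K (2 ^ m)) := fun x =>
  ⟨(x.2.1 : GL chevF4.Idx K) * nW K (wd x.1) * (x.2.2.1 : GL chevF4.Idx K)
      * (x.2.2.2 : GL chevF4.Idx K),
    Subgroup.mul_mem _ (Subgroup.mul_mem _ (Subgroup.mul_mem _ x.2.1.2.2 (nW_wd_mem_twisted x.1))
      x.2.2.1.2.2) (Uw_le_twisted hK x.1 x.2.2.2.2)⟩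

theorem cellMap_bijective (hK : Fintype.card K = 2 ^ (2 * m + 1)) :
    Function.Bijective (cellMap hK) := by
  have hUB : chevF4.posUnipotent K ≤ chevF4.borelSubgroup K := le_sup_left
  have hHN : chevF4.diagonalSubgroup K ≤ chevF4.monomialSubgroup K := le_sup_left
  constructor
  · rintro ⟨g, u, h, u'⟩ ⟨g', v, k, v'⟩ e
    have e' : (u : GL chevF4.Idx K) * nW K (wd g) * (h : GL chevF4.Idx K) * (u' : GL chevF4.Idx K)
        = (v : GL chevF4.Idx K) * nW K (wd g') * (k : GL chevF4.Idx K) * (v' : GL chevF4.Idx K) :=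
      congrArg Subtype.val e
    have e2 : (u : GL chevF4.Idx K) * (nW K (wd g) * (h : GL chevF4.Idx K)) * (u' : GL chevF4.Idx K)
        = (v : GL chevF4.Idx K) * (nW K (wd g') * (k : GL chevF4.Idx K)) * (v' : GL chevF4.Idx K) := by
      rw [← mul_assoc, ← mul_assoc]
      exact e'
    have hn : nW K (wd g) * (h : GL chevF4.Idx K) ∈ chevF4.monomialSubgroup K :=
      Subgroup.mul_mem _ (nW_mem_mono _) (hHN h.2.1)
    have hn' : nW K (wd g') * (k : GL chevF4.Idx K) ∈ chevF4.monomialSubgroup K :=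
      Subgroup.mul_mem _ (nW_mem_mono _) (hHN k.2.1)
    have hu' : (u' : GL chevF4.Idx K)
        ∈ Subgroup.closure (unegSet K chevF4 (nW K (wd g) * (h : GL chevF4.Idx K))) := by
      have hle : Uw hK g
          ≤ Subgroup.closure (unegSet K chevF4 (nW K (wd g) * (h : GL chevF4.Idx K))) := by
        rw [← Uw_eq hK g h h.2.1]
        exact inf_le_left
      exact hle u'.2
    have hv' : (v' : GL chevF4.Idx K)
        ∈ Subgroup.closure (unegSet K chevF4 (nW K (wd g') * (k : GL chevF4.Idx K))) := by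
      have hle : Uw hK g'
          ≤ Subgroup.closure (unegSet K chevF4 (nW K (wd g') * (k : GL chevF4.Idx K))) := by
        rw [← Uw_eq hK g' k k.2.1]
        exact inf_le_left
      exact hle v'.2
    have hnn := bruhat_sharp_unique chevF4 hD4 _ _ _ _ _ _ u.2.1 v.2.1 hn hn' hu' hv' e2
    have hgg : g = g' := coset_unique g g' _ _ h.2.1 k.2.1 hnn
    subst hgg
    have huu := (bruhat_unique_all chevF4 hD4 _ _ _ _ _ _ (hUB u.2.1) (hUB v.2.1) hn hn' hu' hv'
      e2).2 hnn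
    have hhk : (h : GL chevF4.Idx K) = k := mul_left_cancel hnn
    have e3 : u = v := Subtype.ext huu.1
    have e4 : h = k := Subtype.ext hhk
    have e5 : u' = v' := Subtype.ext huu.2
    rw [e3, e4, e5]
  · intro x
    have hxf : (x : GL chevF4.Idx K) ∈ fixR hK := twisted_le_fixR hK x.2
    obtain ⟨u1, hu1, n, hn, u, hu, e, hf1, hfn, hfu⟩ := bruhat_fixR hK _ hxf
    obtain ⟨g, h, hh, rfl⟩ := mono_fix_coset hK n hn hfn
    have hnWf : nW K (wd g) ∈ fixR hK := twisted_le_fixR hK (nW_wd_mem_twisted g)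
    have hhf : h ∈ fixR hK := by
      have e1 : h = (nW K (wd g))⁻¹ * (nW K (wd g) * h) := by group
      rw [e1]
      exact Subgroup.mul_mem _ (Subgroup.inv_mem _ hnWf) hfn
    have hu1t : u1 ∈ twistedF4 K (2 ^ m) := pos_fixed_le_twisted hK ⟨hu1, hf1⟩
    have hht : h ∈ twistedF4 K (2 ^ m) := diag_fixed_le_twisted hK ⟨hh, hhf⟩
    have huw : u ∈ Uw hK g := by
      rw [← Uw_eq hK g h hh]
      exact ⟨hu, hfu⟩
    refine ⟨⟨g, ⟨u1, hu1, hu1t⟩, ⟨h, hh, hht⟩, ⟨u, huw⟩⟩, ?_⟩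
    apply Subtype.ext
    show u1 * nW K (wd g) * h * u = _
    rw [e]
    group

/-- the order of the large Ree group, as a sum over the cells -/
theorem card_twisted_sum (hK : Fintype.card K = 2 ^ (2 * m + 1)) :
    Nat.card ↥(twistedF4 K (2 ^ m))
      = (2 ^ (2 * m + 1)) ^ 12 * (2 ^ (2 * m + 1) - 1) ^ 2 *
        ∑ g : DihedralGroup 8, (2 ^ (2 * m + 1)) ^ aOf g := by
  have hU := card_pos_twisted hK
  have hH := card_diag_twisted hK
  have h2 : 2 ^ 1 ≤ 2 ^ (2 * m + 1) := Nat.pow_le_pow_right (by norm_num) (by omega)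
  have : Finite ↥(chevF4.posUnipotent K ⊓ twistedF4 K (2 ^ m)) :=
    Nat.finite_of_card_ne_zero (by rw [hU]; positivity)
  have : Finite ↥(chevF4.diagonalSubgroup K ⊓ twistedF4 K (2 ^ m)) :=
    Nat.finite_of_card_ne_zero (by rw [hH]; apply pow_ne_zero; omega)
  have hfin : ∀ g : DihedralGroup 8, Finite ↥(Uw hK g) := fun g =>
    Nat.finite_of_card_ne_zero (by rw [card_Uw hK g]; positivity)
  have hfinC : ∀ g : DihedralGroup 8, Finite (Cell hK g) := fun g => by
    unfold Cell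
    infer_instance
  rw [← Nat.card_congr (Equiv.ofBijective (cellMap hK) (cellMap_bijective hK)), Nat.card_sigma,
    Finset.mul_sum]
  apply Finset.sum_congr rfl
  intro g _
  unfold Cell
  rw [Nat.card_prod, Nat.card_prod, hU, hH, card_Uw hK g]
  ring

/-- the order of the large Ree group -/
theorem card_twisted (hK : Fintype.card K = 2 ^ (2 * m + 1)) :
    Nat.card ↥(twistedF4 K (2 ^ m)) =
      (2 ^ (2 * m + 1)) ^ 12 * (2 ^ (2 * m + 1) - 1) * ((2 ^ (2 * m + 1)) ^ 3 + 1) *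
        ((2 ^ (2 * m + 1)) ^ 4 - 1) * ((2 ^ (2 * m + 1)) ^ 6 + 1) := by
  rw [card_twisted_sum hK, sum_pow_aOf]
  have h2 : 1 ≤ 2 ^ (2 * m + 1) := Nat.one_le_two_pow
  obtain ⟨x, hx⟩ : ∃ x, 2 ^ (2 * m + 1) = x + 1 := ⟨2 ^ (2 * m + 1) - 1, by omega⟩
  rw [hx, Nat.add_sub_cancel]
  have e4 : (x + 1) ^ 4 - 1 = x * ((x + 1) + 1) * ((x + 1) ^ 2 + 1) := by
    have : (x + 1) ^ 4 = x * ((x + 1) + 1) * ((x + 1) ^ 2 + 1) + 1 := by ring
    rw [this, Nat.add_sub_cancel]
  rw [e4]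
  ring

end

end Cfsg.Agent.Lib.Helper8.F4T
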