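import Cfsg.Agent.Lib.Helper8.F4T.HTor
import Cfsg.Agent.Lib.Helper5.Chev.BruhatH
import Mathlib

/-!
# The fixed points of the groups `U_w⁻` for the large Ree group (helper8)

For a union of classes of positive roots (given by `b : Fin 8 → Bool`), the fixed elements of the
subgroup generated by the root subgroups of these classes are the words `uw p` with `p` supported
on the parameters of these classes.
-/

set_option autoImplicit false
set_option maxRecDepth 100000

namespace Cfsg.Agent.Lib.Helper8.F4T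

open Cfsg.Lie Cfsg.Agent.Lib.Helper5.Chev Cfsg.Agent.Lib.Helper5.GA Cfsg.Agent.Lib.Helper5.Tw
open Cfsg.Agent.Lib.Helper5.Frob Cfsg.Agent.Lib.Helper5.Ree Cfsg.Agent.Lib.Helper5.St
open scoped Matrix

/-- the class of a positive root, in the order of `L0` -/
def blockOf (r : ℕ) : Fin 8 :=
  if r = 33 ∨ r = 24 then 0
  else if r = 34 ∨ r = 26 ∨ r = 36 ∨ r = 42 then 1
  else if r = 38 ∨ r = 43 then 2
  else if r = 29 ∨ r = 41 ∨ r = 44 ∨ r = 47 then 3
  else if r = 39 ∨ r = 45 then 4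
  else if r = 35 ∨ r = 31 ∨ r = 40 ∨ r = 46 then 5
  else if r = 37 ∨ r = 32 then 6
  else 7

/-- the roots of the selected classes -/
def Pb (b : Fin 8 → Bool) (r : ℕ) : Bool := b (blockOf r)

/-- the class of a parameter -/
def blockIdx : Fin 12 → Fin 8 := ![0, 1, 1, 2, 3, 3, 4, 5, 5, 6, 7, 7]

/-- the parameters supported on the selected classes -/
def Supp {K : Type*} [Zero K] (b : Fin 8 → Bool) (p : Fin 12 → K) : Prop :=
  ∀ i, b (blockIdx i) = false → p i = 0

section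

variable {K : Type*} [Field K] [Fintype K] [CharP K 2] {m : ℕ}

omit [Fintype K] in
theorem pair_rw_zero (S : PairSide K) : (hadd4 K).wordU (S.rw m 0) = 1 := by
  unfold PairSide.rw
  rw [PairSide.wordU_w2, map_zero, xU_zero4, xU_zero4, one_mul]

omit [Fintype K] in
theorem b2_rw_zero (S : B2Side K) : (hadd4 K).wordU (S.rw m 0 0) = 1 := by
  unfold B2Side.rw
  rw [B2Side.wordU_w4, map_zero, map_zero, mul_zero, add_zero, xU_zero4, xU_zero4, xU_zero4,
    xU_zero4, one_mul, one_mul]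

omit [Fintype K] in
theorem pair_rw_mem (S : PairSide K) (L : List ℕ) (t : K)
    (h : t = 0 ∨ (S.rs ∈ L ∧ S.rl ∈ L)) : (hadd4 K).wordU (S.rw m t) ∈ UL K chevF4 L := by
  rcases h with rfl | ⟨h1, h2⟩
  · rw [pair_rw_zero]
    exact Subgroup.one_mem _
  · apply wordU_mem_UL
    intro q hq
    unfold PairSide.rw PairSide.w2 at hq
    simp only [List.mem_cons, List.not_mem_nil, or_false] at hq
    rcases hq with rfl | rfl
    · exact h1
    · exact h2

omit [Fintype K] in
theorem b2_rw_mem (S : B2Side K) (L : List ℕ) (t u : K)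
    (h : (t = 0 ∧ u = 0) ∨ (S.ra ∈ L ∧ S.rb ∈ L ∧ S.r1 ∈ L ∧ S.r2 ∈ L)) :
    (hadd4 K).wordU (S.rw m t u) ∈ UL K chevF4 L := by
  rcases h with ⟨rfl, rfl⟩ | ⟨h1, h2, h3, h4⟩
  · rw [b2_rw_zero]
    exact Subgroup.one_mem _
  · apply wordU_mem_UL
    intro q hq
    unfold B2Side.rw B2Side.w4 at hq
    simp only [List.mem_cons, List.not_mem_nil, or_false] at hq
    rcases hq with rfl | rfl | rfl | rfl
    · exact h1
    · exact h2
    · exact h3
    · exact h4

omit [Fintype K] [CharP K 2] in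
theorem mem_filter_Pb (b : Fin 8 → Bool) (r : ℕ) (hr : r ∈ L0) (j : Fin 8) (hj : blockOf r = j)
    (hb : b j = true) : r ∈ L0.filter (Pb b) := by
  rw [List.mem_filter]
  refine ⟨hr, ?_⟩
  unfold Pb
  rw [hj, hb]

omit [Fintype K] in
/-- the words with parameters supported on the selected classes lie in the subgroup of these
classes -/
theorem uw_mem_UL (b : Fin 8 → Bool) (p : Fin 12 → K) (hp : Supp b p) :
    (hadd4 K).wordU (uw K m p) ∈ UL K chevF4 (L0.filter (Pb b)) := by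
  have hpair : ∀ (S : PairSide K) (i : Fin 12) (j : Fin 8), blockIdx i = j →
      S.rs ∈ L0 → S.rl ∈ L0 → blockOf S.rs = j → blockOf S.rl = j →
      (hadd4 K).wordU (S.rw m (p i)) ∈ UL K chevF4 (L0.filter (Pb b)) := by
    intro S i j hi h1 h2 h3 h4
    apply pair_rw_mem
    by_cases hb : b j = true
    · right
      exact ⟨mem_filter_Pb b _ h1 j h3 hb, mem_filter_Pb b _ h2 j h4 hb⟩
    · left
      apply hp i
      rw [hi]
      simpa using hb
  have hb2 : ∀ (S : B2Side K) (i i' : Fin 12) (j : Fin 8), blockIdx i = j → blockIdx i' = j →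
      S.ra ∈ L0 → S.rb ∈ L0 → S.r1 ∈ L0 → S.r2 ∈ L0 → blockOf S.ra = j → blockOf S.rb = j →
      blockOf S.r1 = j → blockOf S.r2 = j →
      (hadd4 K).wordU (S.rw m (p i) (p i')) ∈ UL K chevF4 (L0.filter (Pb b)) := by
    intro S i i' j hi hi' h1 h2 h3 h4 h5 h6 h7 h8
    apply b2_rw_mem
    by_cases hb : b j = true
    · right
      exact ⟨mem_filter_Pb b _ h1 j h5 hb, mem_filter_Pb b _ h2 j h6 hb,
        mem_filter_Pb b _ h3 j h7 hb, mem_filter_Pb b _ h4 j h8 hb⟩
    · left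
      have hb' : b j = false := by simpa using hb
      exact ⟨hp i (by rw [hi]; exact hb'), hp i' (by rw [hi']; exact hb')⟩
  unfold uw
  simp only [Helper5.Tw.wordU_append]
  exact Subgroup.mul_mem _ (hpair (P1 K) 0 0 rfl (by decide : (33 : ℕ) ∈ L0) (by decide : (24 : ℕ) ∈ L0) rfl rfl) (Subgroup.mul_mem _
    (hb2 (Q1 K) 1 2 1 rfl rfl (by decide : (34 : ℕ) ∈ L0) (by decide : (26 : ℕ) ∈ L0) (by decide : (36 : ℕ) ∈ L0) (by decide : (42 : ℕ) ∈ L0) rfl rfl rfl rfl) (Subgroup.mul_mem _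
    (hpair (P2 K) 3 2 rfl (by decide : (38 : ℕ) ∈ L0) (by decide : (43 : ℕ) ∈ L0) rfl rfl) (Subgroup.mul_mem _
    (hb2 (Q2 K) 4 5 3 rfl rfl (by decide : (29 : ℕ) ∈ L0) (by decide : (41 : ℕ) ∈ L0) (by decide : (44 : ℕ) ∈ L0) (by decide : (47 : ℕ) ∈ L0) rfl rfl rfl rfl) (Subgroup.mul_mem _
    (hpair (P3 K) 6 4 rfl (by decide : (39 : ℕ) ∈ L0) (by decide : (45 : ℕ) ∈ L0) rfl rfl) (Subgroup.mul_mem _
    (hb2 (Q3 K) 7 8 5 rfl rfl (by decide : (35 : ℕ) ∈ L0) (by decide : (31 : ℕ) ∈ L0) (by decide : (40 : ℕ) ∈ L0) (by decide : (46 : ℕ) ∈ L0) rfl rfl rfl rfl) (Subgroup.mul_mem _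
    (hpair (P4 K) 9 6 rfl (by decide : (37 : ℕ) ∈ L0) (by decide : (32 : ℕ) ∈ L0) rfl rfl)
    (hb2 (Q4 K) 10 11 7 rfl rfl (by decide : (27 : ℕ) ∈ L0) (by decide : (25 : ℕ) ∈ L0) (by decide : (28 : ℕ) ∈ L0) (by decide : (30 : ℕ) ∈ L0) rfl rfl rfl rfl)))))))

omit [Fintype K] in
theorem uw_eq_wordL (p : Fin 12 → K) (τ : ℕ → K) (h : uw K m p = wordL L0 τ) :
    p 0 = τ 24 ∧ p 1 = τ 26 ∧ ph1 K m (p 1) * p 1 + p 2 = τ 36 ∧ p 3 = τ 43 ∧ p 4 = τ 41 ∧
    ph1 K m (p 4) * p 4 + p 5 = τ 44 ∧ p 6 = τ 45 ∧ p 7 = τ 31 ∧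
    ph1 K m (p 7) * p 7 + p 8 = τ 40 ∧ p 9 = τ 32 ∧ p 10 = τ 25 ∧
    ph1 K m (p 10) * p 10 + p 11 = τ 28 := by
  have h' : uw K m p = [(33, τ 33), (24, τ 24), (34, τ 34), (26, τ 26), (36, τ 36), (42, τ 42),
      (38, τ 38), (43, τ 43), (29, τ 29), (41, τ 41), (44, τ 44), (47, τ 47), (39, τ 39),
      (45, τ 45), (35, τ 35), (31, τ 31), (40, τ 40), (46, τ 46), (37, τ 37), (32, τ 32),
      (27, τ 27), (25, τ 25), (28, τ 28), (30, τ 30)] := h
  have h'' : [((33 : ℕ), ph1 K m (p 0)), (24, p 0), (34, ph1 K m (p 1)), (26, p 1),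
      (36, ph1 K m (p 1) * p 1 + p 2), (42, ph2 K m (p 2)), (38, ph1 K m (p 3)), (43, p 3),
      (29, ph1 K m (p 4)), (41, p 4), (44, ph1 K m (p 4) * p 4 + p 5), (47, ph2 K m (p 5)),
      (39, ph1 K m (p 6)), (45, p 6), (35, ph1 K m (p 7)), (31, p 7),
      (40, ph1 K m (p 7) * p 7 + p 8), (46, ph2 K m (p 8)), (37, ph1 K m (p 9)), (32, p 9),
      (27, ph1 K m (p 10)), (25, p 10), (28, ph1 K m (p 10) * p 10 + p 11),
      (30, ph2 K m (p 11))] = _ := h'
  simp only [List.cons.injEq, Prod.mk.injEq, true_and, and_true] at h''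
  obtain ⟨-, a24, -, a26, a36, -, -, a43, -, a41, a44, -, -, a45, -, a31, a40, -, -, a32, -, a25,
    a28, -⟩ := h''
  exact ⟨a24, a26, a36, a43, a41, a44, a45, a31, a40, a32, a25, a28⟩

/-- the fixed elements of the subgroup of the selected classes -/
theorem UL_fix_exists (hK : Fintype.card K = 2 ^ (2 * m + 1)) (b : Fin 8 → Bool)
    (hgood : GoodL chevF4 (L0.filter (Pb b))) (u : GL chevF4.Idx K)
    (hu : u ∈ UL K chevF4 (L0.filter (Pb b))) (hf : u ∈ fixR hK) :
    ∃ p : Fin 12 → K, Supp b p ∧ u = (hadd4 K).wordU (uw K m p) := by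
  obtain ⟨τ, rfl⟩ := exists_wordL (by simp) (hadd4 K) _ hgood u hu
  let τ' : ℕ → K := fun r => if Pb b r = true then τ r else 0
  have hτ' : ∀ r, Pb b r = false → τ' r = 0 := by
    intro r hr
    show (if Pb b r = true then τ r else 0) = 0
    rw [if_neg (by simp [hr])]
  have e1 : wordL (L0.filter (Pb b)) τ = wordL (L0.filter (Pb b)) τ' := by
    apply wordL_congr
    intro r hr
    rw [List.mem_filter] at hr
    show τ r = if Pb b r = true then τ r else 0
    rw [if_pos hr.2]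
  have e2 : (hadd4 K).wordU (wordL (L0.filter (Pb b)) τ') = (hadd4 K).wordU (wordL L0 τ') :=
    wordU_filter (hadd4 K) (Pb b) τ' L0 (fun r _ hr => hτ' r hr)
  rw [e1, e2] at hf ⊢
  have hpos : (hadd4 K).wordU (wordL L0 τ') ∈ chevF4.posUnipotent K := by
    rw [← UL_eq_posUnipotent (K := K) ordL0]
    exact wordU_wordL_mem (hadd4 K) L0 L0 (fun r hr => hr) _
  obtain ⟨p, hp⟩ := pos_fixed hK _ hpos hf
  have e3 : wordL L0 τ' = uw K m p :=
    word_eq_of_fst ordL0 L0_nodup _ _ (by unfold wordL; rw [List.map_map]; exact List.map_id _)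
      (uw_fst p) hp
  refine ⟨p, ?_, hp⟩
  obtain ⟨a24, a26, a36, a43, a41, a44, a45, a31, a40, a32, a25, a28⟩ := uw_eq_wordL p τ' e3.symm
  have hz : ∀ (r : ℕ) (j : Fin 8), blockOf r = j → b j = false → τ' r = 0 := by
    intro r j hj hb
    apply hτ'
    unfold Pb
    rw [hj, hb]
  intro i hi
  fin_cases i
  · exact a24.trans (hz 24 0 rfl hi)
  · exact a26.trans (hz 26 1 rfl hi)
  · have h1 : p 1 = 0 := a26.trans (hz 26 1 rfl hi)
    have h2 := a36.trans (hz 36 1 rfl hi)
    rw [h1, map_zero, mul_zero, zero_add] at h2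
    exact h2
  · exact a43.trans (hz 43 2 rfl hi)
  · exact a41.trans (hz 41 3 rfl hi)
  · have h1 : p 4 = 0 := a41.trans (hz 41 3 rfl hi)
    have h2 := a44.trans (hz 44 3 rfl hi)
    rw [h1, map_zero, mul_zero, zero_add] at h2
    exact h2
  · exact a45.trans (hz 45 4 rfl hi)
  · exact a31.trans (hz 31 5 rfl hi)
  · have h1 : p 7 = 0 := a31.trans (hz 31 5 rfl hi)
    have h2 := a40.trans (hz 40 5 rfl hi)
    rw [h1, map_zero, mul_zero, zero_add] at h2
    exact h2
  · exact a32.trans (hz 32 6 rfl hi)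
  · exact a25.trans (hz 25 7 rfl hi)
  · have h1 : p 10 = 0 := a25.trans (hz 25 7 rfl hi)
    have h2 := a28.trans (hz 28 7 rfl hi)
    rw [h1, map_zero, mul_zero, zero_add] at h2
    exact h2

omit [CharP K 2] in
/-- the number of parameters supported on the selected classes -/
theorem card_supp (hK : Fintype.card K = 2 ^ (2 * m + 1)) (b : Fin 8 → Bool) :
    Nat.card {p : Fin 12 → K // Supp b p}
      = (2 ^ (2 * m + 1)) ^ Nat.card {i : Fin 12 // b (blockIdx i) = true} := by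
  classical
  let e : {p : Fin 12 → K // Supp b p} ≃ ({i : Fin 12 // b (blockIdx i) = true} → K) :=
    { toFun := fun p i => p.1 i.1
      invFun := fun f => ⟨fun i => if h : b (blockIdx i) = true then f ⟨i, h⟩ else 0, by
        intro i hi
        show (if h : b (blockIdx i) = true then f ⟨i, h⟩ else 0) = 0
        rw [dif_neg (by simp [hi])]⟩
      left_inv := by
        rintro ⟨p, hp⟩
        apply Subtype.ext
        funext i
        show (if h : b (blockIdx i) = true then p i else 0) = p i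
        by_cases h : b (blockIdx i) = true
        · rw [dif_pos h]
        · rw [dif_neg h]
          exact (hp i (by simpa using h)).symm
      right_inv := by
        intro f
        funext i
        show (if h : b (blockIdx i.1) = true then f ⟨i.1, h⟩ else 0) = f i
        rw [dif_pos i.2] }
  rw [Nat.card_congr e, Nat.card_fun, Nat.card_eq_fintype_card (α := K), hK]

/-- the number of fixed elements of the subgroup of the selected classes -/
theorem card_UL_fix (hK : Fintype.card K = 2 ^ (2 * m + 1)) (b : Fin 8 → Bool)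
    (hgood : GoodL chevF4 (L0.filter (Pb b))) :
    Nat.card ↥(UL K chevF4 (L0.filter (Pb b)) ⊓ fixR hK)
      = (2 ^ (2 * m + 1)) ^ Nat.card {i : Fin 12 // b (blockIdx i) = true} := by
  let f : {p : Fin 12 → K // Supp b p} → ↥(UL K chevF4 (L0.filter (Pb b)) ⊓ fixR hK) := fun p =>
    ⟨(hadd4 K).wordU (uw K m p.1), uw_mem_UL b p.1 p.2, uw_mem_fixR hK p.1⟩
  have hbij : Function.Bijective f := by
    constructor
    · intro p p' h
      exact Subtype.ext (uw_injective p.1 p'.1 (congrArg Subtype.val h))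
    · rintro ⟨u, hu, hf⟩
      obtain ⟨p, hp, rfl⟩ := UL_fix_exists hK b hgood u hu hf
      exact ⟨⟨p, hp⟩, rfl⟩
  rw [← Nat.card_congr (Equiv.ofBijective f hbij), card_supp hK]

end

section uneg

variable {K : Type*} [Field K]

/-- the roots made negative by a word -/
def invW (W : List ℕ) (r : ℕ) : Bool := decide (wW BsF4.Bs W r < 24)

/-- `U_n⁻` for `n = n_W h` is the subgroup of the positive roots made negative by `W` -/
theorem uneg_eq_UL (W : List ℕ) (hW : ∀ i ∈ W, i < chevF4.rank) (h : GL chevF4.Idx K)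
    (hh : h ∈ chevF4.diagonalSubgroup K) :
    Subgroup.closure (unegSet K chevF4 (nWordU DataF4.agrees (hadd4 K) W * h))
      = UL K chevF4 (L0.filter (invW W)) := by
  unfold UL
  congr 1
  ext x
  constructor
  · rintro ⟨r, t, hr, hmap, hx⟩
    have hlt := (map_root_le_neg_iff hD4 DataF4.agrees (hadd4 K) BsF4.Bs HsF4.reflBs' W hW h hh r
      hr.1).1 hmap
    refine ⟨r, ?_, t, hx⟩
    rw [List.mem_filter]
    refine ⟨ordL0.all r hr.1 hr, ?_⟩
    unfold invW
    exact decide_eq_true hlt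
  · rintro ⟨r, hr, t, hx⟩
    rw [List.mem_filter] at hr
    have hpos := ordL0.pos r hr.1
    have hlt : wW BsF4.Bs W r < 24 := of_decide_eq_true hr.2
    exact ⟨r, t, hpos, (map_root_le_neg_iff hD4 DataF4.agrees (hadd4 K) BsF4.Bs HsF4.reflBs' W hW
      h hh r hpos.1).2 hlt, hx⟩

end uneg

section

variable {K : Type*} [Field K] [Fintype K] [CharP K 2] {m : ℕ}

/-- the number of fixed elements of `U_n⁻` for `n = n_W h` -/
theorem card_uneg_fix (hK : Fintype.card K = 2 ^ (2 * m + 1)) (W : List ℕ)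
    (hW : ∀ i ∈ W, i < chevF4.rank) (b : Fin 8 → Bool)
    (hb : ∀ r ∈ L0, invW W r = Pb b r) (hgood : GoodL chevF4 (L0.filter (Pb b)))
    (h : GL chevF4.Idx K) (hh : h ∈ chevF4.diagonalSubgroup K) :
    Nat.card ↥(Subgroup.closure (unegSet K chevF4 (nWordU DataF4.agrees (hadd4 K) W * h))
        ⊓ fixR hK)
      = (2 ^ (2 * m + 1)) ^ Nat.card {i : Fin 12 // b (blockIdx i) = true} := by
  rw [uneg_eq_UL W hW h hh, List.filter_congr hb]
  exact card_UL_fix hK b hgood

end

end Cfsg.Agent.Lib.Helper8.F4T
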