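import Cfsg.Agent.Lib.Helper8.F4T.Sides
import Mathlib

/-!
# The eight classes of positive roots of `F₄` and the two classes of negative fundamental roots
(helper8)
-/

set_option autoImplicit false

namespace Cfsg.Agent.Lib.Helper8.F4T

open Cfsg.Lie Cfsg.Agent.Lib.Helper5.Chev Cfsg.Agent.Lib.Helper5.GA Cfsg.Agent.Lib.Helper5.Tw
open Cfsg.Agent.Lib.Helper5.Frob Cfsg.Agent.Lib.Helper5.Ree
open scoped Matrix

/-- the check for a class of type `B₂` -/
def b2ck (ra rb r1 r2 : ℕ) : Bool :=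
  mlEqb 2 DataF4.fd [(rb, 1, 0, 1, 0), (ra, 1, 1, 0, 0)]
    [(ra, 1, 1, 0, 0), (rb, 1, 0, 1, 0), (r1, 1, 1, 1, 0), (r2, 1, 2, 1, 0)] &&
  commb 2 DataF4.fd r1 r2

section

variable {K : Type*} [Field K] [CharP K 2]

/-- a pair from the check -/
def mkPair (K : Type*) [Field K] [CharP K 2] (rs rl : ℕ) (h : commb 2 DataF4.fd rs rl = true) :
    PairSide K where
  rs := rs
  rl := rl
  comm := commute_of_check 2 DataF4.agrees (hadd4 K) rs rl h

/-- a class of type `B₂` from the check -/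
def mkB2 (K : Type*) [Field K] [CharP K 2] (ra rb r1 r2 : ℕ) (h : b2ck ra rb r1 r2 = true) :
    B2Side K where
  ra := ra
  rb := rb
  r1 := r1
  r2 := r2
  hcomm := by
    intro A B
    unfold b2ck at h
    rw [Bool.and_eq_true] at h
    have e := wordU_eq_of_ml 2 DataF4.agrees (hadd4 K) _ _ h.1 A B (1 : K)
    simp only [mlEval, List.map_cons, List.map_nil, wordU_cons, wordU_nil, Int.cast_one, one_mul,
      pow_zero, mul_one, pow_one] at e
    rw [e]
    simp only [mul_assoc]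
  c12 := by
    unfold b2ck at h
    rw [Bool.and_eq_true] at h
    exact commute_of_check 2 DataF4.agrees (hadd4 K) r1 r2 h.2

end

theorem ckP1 : commb 2 DataF4.fd 33 24 = true := by decide +kernel
theorem ckP2 : commb 2 DataF4.fd 38 43 = true := by decide +kernel
theorem ckP3 : commb 2 DataF4.fd 39 45 = true := by decide +kernel
theorem ckP4 : commb 2 DataF4.fd 37 32 = true := by decide +kernel
theorem ckP1n : commb 2 DataF4.fd 14 23 = true := by decide +kernel

theorem ckQ1 : b2ck 34 26 36 42 = true := by decide +kernel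
theorem ckQ2 : b2ck 29 41 44 47 = true := by decide +kernel
theorem ckQ3 : b2ck 35 31 40 46 = true := by decide +kernel
theorem ckQ4 : b2ck 27 25 28 30 = true := by decide +kernel
theorem ckQ4n : b2ck 20 22 19 17 = true := by decide +kernel

section

variable (K : Type*) [Field K] [CharP K 2]

def P1 : PairSide K := mkPair K 33 24 ckP1
def P2 : PairSide K := mkPair K 38 43 ckP2
def P3 : PairSide K := mkPair K 39 45 ckP3
def P4 : PairSide K := mkPair K 37 32 ckP4
def P1n : PairSide K := mkPair K 14 23 ckP1n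
def Q1 : B2Side K := mkB2 K 34 26 36 42 ckQ1
def Q2 : B2Side K := mkB2 K 29 41 44 47 ckQ2
def Q3 : B2Side K := mkB2 K 35 31 40 46 ckQ3
def Q4 : B2Side K := mkB2 K 27 25 28 30 ckQ4
def Q4n : B2Side K := mkB2 K 20 22 19 17 ckQ4n

theorem P1sg : PairSg (P1 K) :=
  ⟨(by decide : (33 : ℕ) < chevF4.nroots), (by decide : (24 : ℕ) < chevF4.nroots), rfl, rfl, rfl, rfl⟩
theorem P2sg : PairSg (P2 K) :=
  ⟨(by decide : (38 : ℕ) < chevF4.nroots), (by decide : (43 : ℕ) < chevF4.nroots), rfl, rfl, rfl, rfl⟩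
theorem P3sg : PairSg (P3 K) :=
  ⟨(by decide : (39 : ℕ) < chevF4.nroots), (by decide : (45 : ℕ) < chevF4.nroots), rfl, rfl, rfl, rfl⟩
theorem P4sg : PairSg (P4 K) :=
  ⟨(by decide : (37 : ℕ) < chevF4.nroots), (by decide : (32 : ℕ) < chevF4.nroots), rfl, rfl, rfl, rfl⟩
theorem P1nsg : PairSg (P1n K) :=
  ⟨(by decide : (14 : ℕ) < chevF4.nroots), (by decide : (23 : ℕ) < chevF4.nroots), rfl, rfl, rfl, rfl⟩
theorem Q1sg : B2Sg (Q1 K) :=
  ⟨(by decide : (34 : ℕ) < chevF4.nroots), (by decide : (26 : ℕ) < chevF4.nroots),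
    (by decide : (36 : ℕ) < chevF4.nroots), (by decide : (42 : ℕ) < chevF4.nroots),
    rfl, rfl, rfl, rfl, rfl, rfl, rfl, rfl⟩
theorem Q2sg : B2Sg (Q2 K) :=
  ⟨(by decide : (29 : ℕ) < chevF4.nroots), (by decide : (41 : ℕ) < chevF4.nroots),
    (by decide : (44 : ℕ) < chevF4.nroots), (by decide : (47 : ℕ) < chevF4.nroots),
    rfl, rfl, rfl, rfl, rfl, rfl, rfl, rfl⟩
theorem Q3sg : B2Sg (Q3 K) :=
  ⟨(by decide : (35 : ℕ) < chevF4.nroots), (by decide : (31 : ℕ) < chevF4.nroots),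
    (by decide : (40 : ℕ) < chevF4.nroots), (by decide : (46 : ℕ) < chevF4.nroots),
    rfl, rfl, rfl, rfl, rfl, rfl, rfl, rfl⟩
theorem Q4sg : B2Sg (Q4 K) :=
  ⟨(by decide : (27 : ℕ) < chevF4.nroots), (by decide : (25 : ℕ) < chevF4.nroots),
    (by decide : (28 : ℕ) < chevF4.nroots), (by decide : (30 : ℕ) < chevF4.nroots),
    rfl, rfl, rfl, rfl, rfl, rfl, rfl, rfl⟩
theorem Q4nsg : B2Sg (Q4n K) :=
  ⟨(by decide : (20 : ℕ) < chevF4.nroots), (by decide : (22 : ℕ) < chevF4.nroots),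
    (by decide : (19 : ℕ) < chevF4.nroots), (by decide : (17 : ℕ) < chevF4.nroots),
    rfl, rfl, rfl, rfl, rfl, rfl, rfl, rfl⟩

end

end Cfsg.Agent.Lib.Helper8.F4T
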