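import Cfsg.Agent.Lib.Helper8.F4T.Classes
import Cfsg.Prelude.Def_LieTwisted
import Mathlib

/-!
# The generators of the large Ree group are fixed by the twisting automorphism (helper8)
-/

set_option autoImplicit false

namespace Cfsg.Agent.Lib.Helper8.F4T

open Cfsg.Lie Cfsg.Agent.Lib.Helper5.Chev Cfsg.Agent.Lib.Helper5.GA Cfsg.Agent.Lib.Helper5.Tw
open Cfsg.Agent.Lib.Helper5.Frob Cfsg.Agent.Lib.Helper5.Ree
open scoped Matrix

section

variable {K : Type*} [Field K] [Fintype K] [CharP K 2] {m : ℕ}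

omit [Fintype K] in
theorem P1_rw (t : K) : (P1 K).rw m t = f4PairWord (2 ^ m) f4p1 f4p4 t := by
  show [((33 : ℕ), ph1 K m t), (24, t)] = [(33, t ^ 2 ^ m), (24, t)]
  rw [ph1_apply]

omit [Fintype K] in
theorem P1n_rw (t : K) : (P1n K).rw m t = f4PairWord (2 ^ m) f4m1 f4m4 t := by
  show [((14 : ℕ), ph1 K m t), (23, t)] = [(14, t ^ 2 ^ m), (23, t)]
  rw [ph1_apply]

omit [Fintype K] in
theorem Q4_rw (t u : K) : (Q4 K).rw m t u = b2ClassWord (2 ^ m) f4a f4b f4ab f4aab t u := by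
  show [((27 : ℕ), ph1 K m t), (25, t), (28, ph1 K m t * t + u), (30, ph2 K m u)]
    = [(27, t ^ 2 ^ m), (25, t), (28, t ^ (2 ^ m + 1) + u), (30, u ^ (2 * 2 ^ m))]
  rw [ph1_apply, ph2_apply, pow_succ t (2 ^ m), pow_succ 2 m, mul_comm (2 ^ m) 2]

omit [Fintype K] in
theorem Q4n_rw (t u : K) : (Q4n K).rw m t u = b2ClassWord (2 ^ m) f4ma f4mb f4mab f4maab t u := by
  show [((20 : ℕ), ph1 K m t), (22, t), (19, ph1 K m t * t + u), (17, ph2 K m u)]
    = [(20, t ^ 2 ^ m), (22, t), (19, t ^ (2 ^ m + 1) + u), (17, u ^ (2 * 2 ^ m))]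
  rw [ph1_apply, ph2_apply, pow_succ t (2 ^ m), pow_succ 2 m, mul_comm (2 ^ m) 2]

omit [Fintype K] [CharP K 2] in
theorem gen_mem_twisted (e : ℕ) (w : List (ℕ × K)) (hw : w ∈ f4Words K e) :
    (hadd4 K).wordU w ∈ twistedF4 K e := by
  unfold twistedF4 ChevalleyDatum.genSubgroup
  apply Subgroup.subset_closure
  exact ⟨w, hw, (hadd4 K).wordU_val _⟩

omit [Fintype K] [CharP K 2] in
theorem pairU_mem_twisted (e : ℕ) (t : K) :
    (hadd4 K).wordU (f4PairWord e f4p1 f4p4 t) ∈ twistedF4 K e :=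
  gen_mem_twisted e _ (Or.inl ⟨t, Or.inl rfl⟩)

omit [Fintype K] [CharP K 2] in
theorem pairV_mem_twisted (e : ℕ) (t : K) :
    (hadd4 K).wordU (f4PairWord e f4m1 f4m4 t) ∈ twistedF4 K e :=
  gen_mem_twisted e _ (Or.inl ⟨t, Or.inr rfl⟩)

omit [Fintype K] [CharP K 2] in
theorem b2U_mem_twisted (e : ℕ) (t u : K) :
    (hadd4 K).wordU (b2ClassWord e f4a f4b f4ab f4aab t u) ∈ twistedF4 K e :=
  gen_mem_twisted e _ (Or.inr ⟨t, u, Or.inl rfl⟩)

omit [Fintype K] [CharP K 2] in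
theorem b2V_mem_twisted (e : ℕ) (t u : K) :
    (hadd4 K).wordU (b2ClassWord e f4ma f4mb f4mab f4maab t u) ∈ twistedF4 K e :=
  gen_mem_twisted e _ (Or.inr ⟨t, u, Or.inr rfl⟩)

/-- the twisted group lies in the fixed points of the twisting automorphism -/
theorem twisted_le_fixR (hK : Fintype.card K = 2 ^ (2 * m + 1)) :
    twistedF4 K (2 ^ m) ≤ fixR hK := by
  unfold twistedF4 ChevalleyDatum.genSubgroup
  rw [Subgroup.closure_le]
  rintro g ⟨w, hw, hg⟩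
  have e : g = (hadd4 K).wordU w := by
    apply Units.ext
    rw [hg, (hadd4 K).wordU_val]
  rw [SetLike.mem_coe, e]
  rcases hw with ⟨t, rfl | rfl⟩ | ⟨t, u, rfl | rfl⟩
  · rw [← P1_rw]
    exact (P1sg K).rw_mem_fixR hK t
  · rw [← P1n_rw]
    exact (P1nsg K).rw_mem_fixR hK t
  · rw [← Q4_rw]
    exact (Q4sg K).rw_mem_fixR hK t u
  · rw [← Q4n_rw]
    exact (Q4nsg K).rw_mem_fixR hK t u

end

end Cfsg.Agent.Lib.Helper8.F4T
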