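import Cfsg.Agent.Lib.Helper8.F4T.NJ
import Cfsg.Agent.Lib.Helper5.St.GInj
import Mathlib

/-!
# The elements of `U` in the large Ree group (helper8)

Every class word is conjugate, under a word in `n_{J₁}`, `n_{J₂}`, to a word of one of the two
classes of the generators; hence `U ∩ fixR` lies in the twisted group, and `|U¹| = q¹²`.
-/

set_option autoImplicit false
set_option maxRecDepth 100000

namespace Cfsg.Agent.Lib.Helper8.F4T

open Cfsg.Lie Cfsg.Agent.Lib.Helper5.Chev Cfsg.Agent.Lib.Helper5.GA Cfsg.Agent.Lib.Helper5.Tw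
open Cfsg.Agent.Lib.Helper5.Frob Cfsg.Agent.Lib.Helper5.Ree Cfsg.Agent.Lib.Helper5.St
open scoped Matrix

section

variable {K : Type*} [Field K] [CharP K 2]

theorem eq_one_of_sq2 (ε : K) (h : ε * ε = 1) : ε = 1 := by
  have h1 : (ε + 1) * (ε + 1) = 0 := by
    have : (ε + 1) * (ε + 1) = ε * ε + (ε + ε) + 1 := by ring
    rw [this, h, CharTwo.add_self_eq_zero, add_zero, CharTwo.add_self_eq_zero]
  have h2 : ε + 1 = 0 := mul_self_eq_zero.1 h1
  calc ε = ε + 1 + 1 := by rw [add_assoc, CharTwo.add_self_eq_zero, add_zero]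
    _ = 1 := by rw [h2, zero_add]

/-- in characteristic 2, conjugation by a word of the `n_i` permutes the root elements -/
theorem conj_xU2 (W : List ℕ) (hW : ∀ i ∈ W, i < chevF4.rank) (s : ℕ) (hs : s < chevF4.nroots)
    (t : K) :
    nWordU DataF4.agrees (hadd4 K) W * (hadd4 K).xU s t * (nWordU DataF4.agrees (hadd4 K) W)⁻¹
      = (hadd4 K).xU (wW BsF4.Bs W s) t := by
  obtain ⟨-, ε, hε, h⟩ := conj_word_lin DataF4.agrees (hadd4 K) BsF4.Bs HsF4.reflBs' W hW s hs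
  rw [h t, eq_one_of_sq2 ε hε, one_mul]

/-- the image of a word under a word of the Weyl group -/
def mapW (W : List ℕ) (w : List (ℕ × K)) : List (ℕ × K) :=
  w.map fun p => (wW BsF4.Bs W p.1, p.2)

theorem conj_wordU2 (W : List ℕ) (hW : ∀ i ∈ W, i < chevF4.rank) :
    ∀ (w : List (ℕ × K)), (∀ p ∈ w, p.1 < chevF4.nroots) →
    nWordU DataF4.agrees (hadd4 K) W * (hadd4 K).wordU w *
      (nWordU DataF4.agrees (hadd4 K) W)⁻¹ = (hadd4 K).wordU (mapW W w)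
  | [], _ => by
    show _ * 1 * _ = 1
    rw [mul_one, mul_inv_cancel]
  | p :: w, hw => by
    have ih := conj_wordU2 W hW w (fun q hq => hw q (List.mem_cons_of_mem _ hq))
    have h1 := conj_xU2 W hW p.1 (hw p List.mem_cons_self) p.2
    show _ = (hadd4 K).wordU ((wW BsF4.Bs W p.1, p.2) :: mapW W w)
    rw [wordU_cons, wordU_cons, ← ih, ← h1]
    group

omit [CharP K 2] in
theorem nWordU_append (W₁ W₂ : List ℕ) :
    nWordU DataF4.agrees (hadd4 K) (W₁ ++ W₂)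
      = nWordU DataF4.agrees (hadd4 K) W₁ * nWordU DataF4.agrees (hadd4 K) W₂ := by
  unfold nWordU
  rw [List.map_append, List.prod_append]

/-- a word of the Weyl group is reachable if its representative lies in the twisted group -/
def Reachable (K : Type*) [Field K] [CharP K 2] (e : ℕ) (W : List ℕ) : Prop :=
  (∀ i ∈ W, i < chevF4.rank) ∧ nWordU DataF4.agrees (hadd4 K) W ∈ twistedF4 K e

theorem reachable_nil (e : ℕ) : Reachable K e [] :=
  ⟨fun _ h => absurd h List.not_mem_nil, Subgroup.one_mem _⟩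

theorem reachable_J1 (e : ℕ) {W : List ℕ} (h : Reachable K e W) : Reachable K e (wJ1 ++ W) := by
  refine ⟨?_, ?_⟩
  · intro i hi
    rcases List.mem_append.1 hi with hi | hi
    · have : i = 0 ∨ i = 3 := by simpa [wJ1] using hi
      rcases this with rfl | rfl <;> decide
    · exact h.1 i hi
  · rw [nWordU_append]
    exact Subgroup.mul_mem _ (nJ1_mem_twisted e) h.2

theorem reachable_J2 (e : ℕ) (he : e ≠ 0) {W : List ℕ} (h : Reachable K e W) :
    Reachable K e (wJ2 ++ W) := by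
  refine ⟨?_, ?_⟩
  · intro i hi
    rcases List.mem_append.1 hi with hi | hi
    · have : i = 1 ∨ i = 2 := by
        have : i = 1 ∨ i = 2 ∨ i = 1 ∨ i = 2 := by simpa [wJ2] using hi
        tauto
      rcases this with rfl | rfl <;> decide
    · exact h.1 i hi
  · rw [nWordU_append]
    exact Subgroup.mul_mem _ (nJ2_mem_twisted e he) h.2

/-- the conjugate of a word of the twisted group by a reachable word lies in the twisted group -/
theorem mapW_mem_twisted {e : ℕ} {W : List ℕ} (h : Reachable K e W) (w : List (ℕ × K))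
    (hw : ∀ p ∈ w, p.1 < chevF4.nroots) (hmem : (hadd4 K).wordU w ∈ twistedF4 K e) :
    (hadd4 K).wordU (mapW W w) ∈ twistedF4 K e := by
  rw [← conj_wordU2 W h.1 w hw]
  exact Subgroup.mul_mem _ (Subgroup.mul_mem _ h.2 hmem) (Subgroup.inv_mem _ h.2)

end

section

variable {K : Type*} [Field K] [Fintype K] [CharP K 2] {m : ℕ}

omit [Fintype K] in
theorem P1rw_lt (t : K) : ∀ p ∈ (P1 K).rw m t, p.1 < chevF4.nroots := by
  intro p hp
  have : p = (33, ph1 K m t) ∨ p = (24, t) := by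
    simpa [PairSide.rw, PairSide.w2, P1, mkPair] using hp
  rcases this with rfl | rfl
  · exact (by decide : (33 : ℕ) < chevF4.nroots)
  · exact (by decide : (24 : ℕ) < chevF4.nroots)

omit [Fintype K] in
theorem Q4rw_lt (t u : K) : ∀ p ∈ (Q4 K).rw m t u, p.1 < chevF4.nroots := by
  intro p hp
  have : p = (27, ph1 K m t) ∨ p = (25, t) ∨ p = (28, ph1 K m t * t + u) ∨ p = (30, ph2 K m u) := by
    simpa [B2Side.rw, B2Side.w4, Q4, mkB2] using hp
  rcases this with rfl | rfl | rfl | rfl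
  · exact (by decide : (27 : ℕ) < chevF4.nroots)
  · exact (by decide : (25 : ℕ) < chevF4.nroots)
  · exact (by decide : (28 : ℕ) < chevF4.nroots)
  · exact (by decide : (30 : ℕ) < chevF4.nroots)

omit [Fintype K] in
theorem P1rw_mem (t : K) : (hadd4 K).wordU ((P1 K).rw m t) ∈ twistedF4 K (2 ^ m) := by
  rw [P1_rw]
  exact pairU_mem_twisted _ t

omit [Fintype K] in
theorem Q4rw_mem (t u : K) : (hadd4 K).wordU ((Q4 K).rw m t u) ∈ twistedF4 K (2 ^ m) := by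
  rw [Q4_rw]
  exact b2U_mem_twisted _ t u

omit [Fintype K] in
theorem two_pow_ne (m : ℕ) : (2 : ℕ) ^ m ≠ 0 := by positivity

omit [Fintype K] in
theorem rJ1 {W : List ℕ} (h : Reachable K (2 ^ m) W) : Reachable K (2 ^ m) (wJ1 ++ W) :=
  reachable_J1 _ h

omit [Fintype K] in
theorem rJ2 {W : List ℕ} (h : Reachable K (2 ^ m) W) : Reachable K (2 ^ m) (wJ2 ++ W) :=
  reachable_J2 _ (two_pow_ne m) h

omit [Fintype K] in
theorem Q1rw_mem (t u : K) : (hadd4 K).wordU ((Q1 K).rw m t u) ∈ twistedF4 K (2 ^ m) := by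
  have h := mapW_mem_twisted (rJ1 (reachable_nil (K := K) (2 ^ m))) _ (Q4rw_lt t u) (Q4rw_mem t u)
  have e1 : wW BsF4.Bs (wJ1 ++ []) 27 = 34 := by decide +kernel
  have e2 : wW BsF4.Bs (wJ1 ++ []) 25 = 26 := by decide +kernel
  have e3 : wW BsF4.Bs (wJ1 ++ []) 28 = 36 := by decide +kernel
  have e4 : wW BsF4.Bs (wJ1 ++ []) 30 = 42 := by decide +kernel
  have e : mapW (wJ1 ++ []) ((Q4 K).rw m t u) = (Q1 K).rw m t u := by
    show [(wW BsF4.Bs (wJ1 ++ []) 27, ph1 K m t), (wW BsF4.Bs (wJ1 ++ []) 25, t),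
        (wW BsF4.Bs (wJ1 ++ []) 28, ph1 K m t * t + u), (wW BsF4.Bs (wJ1 ++ []) 30, ph2 K m u)]
      = [(34, ph1 K m t), (26, t), (36, ph1 K m t * t + u), (42, ph2 K m u)]
    rw [e1, e2, e3, e4]
  rw [e] at h
  exact h

omit [Fintype K] in
theorem P4rw_mem (t : K) : (hadd4 K).wordU ((P4 K).rw m t) ∈ twistedF4 K (2 ^ m) := by
  have h := mapW_mem_twisted (rJ2 (reachable_nil (K := K) (2 ^ m))) _ (P1rw_lt t) (P1rw_mem t)
  have e1 : wW BsF4.Bs (wJ2 ++ []) 33 = 37 := by decide +kernel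
  have e2 : wW BsF4.Bs (wJ2 ++ []) 24 = 32 := by decide +kernel
  have e : mapW (wJ2 ++ []) ((P1 K).rw m t) = (P4 K).rw m t := by
    show [(wW BsF4.Bs (wJ2 ++ []) 33, ph1 K m t), (wW BsF4.Bs (wJ2 ++ []) 24, t)]
      = [(37, ph1 K m t), (32, t)]
    rw [e1, e2]
  rw [e] at h
  exact h

omit [Fintype K] in
theorem P2rw_mem (t : K) : (hadd4 K).wordU ((P2 K).rw m t) ∈ twistedF4 K (2 ^ m) := by
  have h := mapW_mem_twisted (rJ1 (rJ2 (reachable_nil (K := K) (2 ^ m)))) _ (P1rw_lt t) (P1rw_mem t)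
  have e1 : wW BsF4.Bs (wJ1 ++ (wJ2 ++ [])) 33 = 38 := by decide +kernel
  have e2 : wW BsF4.Bs (wJ1 ++ (wJ2 ++ [])) 24 = 43 := by decide +kernel
  have e : mapW (wJ1 ++ (wJ2 ++ [])) ((P1 K).rw m t) = (P2 K).rw m t := by
    show [(wW BsF4.Bs (wJ1 ++ (wJ2 ++ [])) 33, ph1 K m t), (wW BsF4.Bs (wJ1 ++ (wJ2 ++ [])) 24, t)]
      = [(38, ph1 K m t), (43, t)]
    rw [e1, e2]
  rw [e] at h
  exact h

omit [Fintype K] in
theorem Q3rw_mem (t u : K) : (hadd4 K).wordU ((Q3 K).rw m t u) ∈ twistedF4 K (2 ^ m) := by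
  have h := mapW_mem_twisted (rJ2 (rJ1 (reachable_nil (K := K) (2 ^ m)))) _ (Q4rw_lt t u) (Q4rw_mem t u)
  have e1 : wW BsF4.Bs (wJ2 ++ (wJ1 ++ [])) 27 = 35 := by decide +kernel
  have e2 : wW BsF4.Bs (wJ2 ++ (wJ1 ++ [])) 25 = 31 := by decide +kernel
  have e3 : wW BsF4.Bs (wJ2 ++ (wJ1 ++ [])) 28 = 40 := by decide +kernel
  have e4 : wW BsF4.Bs (wJ2 ++ (wJ1 ++ [])) 30 = 46 := by decide +kernel
  have e : mapW (wJ2 ++ (wJ1 ++ [])) ((Q4 K).rw m t u) = (Q3 K).rw m t u := by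
    show [(wW BsF4.Bs (wJ2 ++ (wJ1 ++ [])) 27, ph1 K m t), (wW BsF4.Bs (wJ2 ++ (wJ1 ++ [])) 25, t),
        (wW BsF4.Bs (wJ2 ++ (wJ1 ++ [])) 28, ph1 K m t * t + u), (wW BsF4.Bs (wJ2 ++ (wJ1 ++ [])) 30, ph2 K m u)]
      = [(35, ph1 K m t), (31, t), (40, ph1 K m t * t + u), (46, ph2 K m u)]
    rw [e1, e2, e3, e4]
  rw [e] at h
  exact h

omit [Fintype K] in
theorem Q2rw_mem (t u : K) : (hadd4 K).wordU ((Q2 K).rw m t u) ∈ twistedF4 K (2 ^ m) := by
  have h := mapW_mem_twisted (rJ1 (rJ2 (rJ1 (reachable_nil (K := K) (2 ^ m))))) _ (Q4rw_lt t u) (Q4rw_mem t u)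
  have e1 : wW BsF4.Bs (wJ1 ++ (wJ2 ++ (wJ1 ++ []))) 27 = 29 := by decide +kernel
  have e2 : wW BsF4.Bs (wJ1 ++ (wJ2 ++ (wJ1 ++ []))) 25 = 41 := by decide +kernel
  have e3 : wW BsF4.Bs (wJ1 ++ (wJ2 ++ (wJ1 ++ []))) 28 = 44 := by decide +kernel
  have e4 : wW BsF4.Bs (wJ1 ++ (wJ2 ++ (wJ1 ++ []))) 30 = 47 := by decide +kernel
  have e : mapW (wJ1 ++ (wJ2 ++ (wJ1 ++ []))) ((Q4 K).rw m t u) = (Q2 K).rw m t u := by
    show [(wW BsF4.Bs (wJ1 ++ (wJ2 ++ (wJ1 ++ []))) 27, ph1 K m t), (wW BsF4.Bs (wJ1 ++ (wJ2 ++ (wJ1 ++ []))) 25, t),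
        (wW BsF4.Bs (wJ1 ++ (wJ2 ++ (wJ1 ++ []))) 28, ph1 K m t * t + u), (wW BsF4.Bs (wJ1 ++ (wJ2 ++ (wJ1 ++ []))) 30, ph2 K m u)]
      = [(29, ph1 K m t), (41, t), (44, ph1 K m t * t + u), (47, ph2 K m u)]
    rw [e1, e2, e3, e4]
  rw [e] at h
  exact h

omit [Fintype K] in
theorem P3rw_mem (t : K) : (hadd4 K).wordU ((P3 K).rw m t) ∈ twistedF4 K (2 ^ m) := by
  have h := mapW_mem_twisted (rJ2 (rJ1 (rJ2 (reachable_nil (K := K) (2 ^ m))))) _ (P1rw_lt t) (P1rw_mem t)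
  have e1 : wW BsF4.Bs (wJ2 ++ (wJ1 ++ (wJ2 ++ []))) 33 = 39 := by decide +kernel
  have e2 : wW BsF4.Bs (wJ2 ++ (wJ1 ++ (wJ2 ++ []))) 24 = 45 := by decide +kernel
  have e : mapW (wJ2 ++ (wJ1 ++ (wJ2 ++ []))) ((P1 K).rw m t) = (P3 K).rw m t := by
    show [(wW BsF4.Bs (wJ2 ++ (wJ1 ++ (wJ2 ++ []))) 33, ph1 K m t), (wW BsF4.Bs (wJ2 ++ (wJ1 ++ (wJ2 ++ []))) 24, t)]
      = [(39, ph1 K m t), (45, t)]
    rw [e1, e2]
  rw [e] at h
  exact h

omit [Fintype K] in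
/-- the fixed words of `U` lie in the twisted group -/
theorem uw_mem_twisted (p : Fin 12 → K) : (hadd4 K).wordU (uw K m p) ∈ twistedF4 K (2 ^ m) := by
  unfold uw
  simp only [Helper5.Tw.wordU_append]
  exact Subgroup.mul_mem _ (P1rw_mem _) (Subgroup.mul_mem _ (Q1rw_mem _ _) (Subgroup.mul_mem _
    (P2rw_mem _) (Subgroup.mul_mem _ (Q2rw_mem _ _) (Subgroup.mul_mem _ (P3rw_mem _)
    (Subgroup.mul_mem _ (Q3rw_mem _ _) (Subgroup.mul_mem _ (P4rw_mem _) (Q4rw_mem _ _)))))))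

/-- the elements of `U` in the twisted group -/
theorem pos_twisted_iff (hK : Fintype.card K = 2 ^ (2 * m + 1)) (g : GL chevF4.Idx K) :
    g ∈ chevF4.posUnipotent K ⊓ twistedF4 K (2 ^ m) ↔
      ∃ p : Fin 12 → K, g = (hadd4 K).wordU (uw K m p) := by
  constructor
  · rintro ⟨h1, h2⟩
    exact pos_fixed hK g h1 (twisted_le_fixR hK h2)
  · rintro ⟨p, rfl⟩
    exact ⟨uw_mem_pos p, uw_mem_twisted p⟩

/-- the elements of `U` fixed by the twisting automorphism lie in the twisted group -/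
theorem pos_fixed_le_twisted (hK : Fintype.card K = 2 ^ (2 * m + 1)) :
    chevF4.posUnipotent K ⊓ fixR hK ≤ twistedF4 K (2 ^ m) := by
  rintro g ⟨h1, h2⟩
  obtain ⟨p, rfl⟩ := pos_fixed hK g h1 h2
  exact uw_mem_twisted p

/-- the number of elements of `U` in the twisted group -/
theorem card_pos_twisted (hK : Fintype.card K = 2 ^ (2 * m + 1)) :
    Nat.card ↥(chevF4.posUnipotent K ⊓ twistedF4 K (2 ^ m)) = (2 ^ (2 * m + 1)) ^ 12 := by
  let f : (Fin 12 → K) → ↥(chevF4.posUnipotent K ⊓ twistedF4 K (2 ^ m)) := fun p =>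
    ⟨(hadd4 K).wordU (uw K m p), (pos_twisted_iff hK _).2 ⟨p, rfl⟩⟩
  have hbij : Function.Bijective f := by
    constructor
    · intro p p' h
      exact uw_injective p p' (congrArg Subtype.val h)
    · rintro ⟨g, hg⟩
      obtain ⟨p, rfl⟩ := (pos_twisted_iff hK g).1 hg
      exact ⟨p, rfl⟩
  rw [← Nat.card_congr (Equiv.ofBijective f hbij), Nat.card_eq_fintype_card, Fintype.card_fun,
    Fintype.card_fin, hK]

end

end Cfsg.Agent.Lib.Helper8.F4T
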