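import Cfsg.Agent.Lib.Helper8.F4T.Sigma
import Cfsg.Agent.Lib.Helper5.Tw.Fixed
import Mathlib

/-!
# The classes of roots of `F₄` under the twisting automorphism (helper8)

A class is either a pair of orthogonal roots (one short, one long) or the positive roots of a
subsystem of type `B₂`; for each kind we record the identities needed to bring the image of a word
under the twisting automorphism back to its canonical order.
-/

set_option autoImplicit false

namespace Cfsg.Agent.Lib.Helper8.F4T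

open Cfsg.Lie Cfsg.Agent.Lib.Helper5.Chev Cfsg.Agent.Lib.Helper5.GA Cfsg.Agent.Lib.Helper5.Tw
open Cfsg.Agent.Lib.Helper5.Frob Cfsg.Agent.Lib.Helper5.Ree
open scoped Matrix

section general

variable {K : Type*} [Field K]

theorem xU_add4 (r : ℕ) (t u : K) :
    (hadd4 K).xU r t * (hadd4 K).xU r u = (hadd4 K).xU r (t + u) := by
  apply Units.ext
  rw [Units.val_mul]
  exact (hadd4 K).x_add r t u

theorem xU_zero4 (r : ℕ) : (hadd4 K).xU r (0 : K) = 1 := Units.ext (x_zero r)

/-- a pair of commuting root subgroups -/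
structure PairSide (K : Type*) [Field K] where
  rs : ℕ
  rl : ℕ
  comm : ∀ A B : K, Commute ((hadd4 K).xU rs A) ((hadd4 K).xU rl B)

/-- the compatibility of a pair with the twisting automorphism -/
structure PairSg (S : PairSide K) : Prop where
  ls : S.rs < chevF4.nroots
  ll : S.rl < chevF4.nroots
  ρs : F4.rho S.rs = S.rl
  ρl : F4.rho S.rl = S.rs
  ms : F4.lam S.rs = 2
  ml : F4.lam S.rl = 1

/-- the words of a pair -/
def PairSide.w2 (S : PairSide K) (t₁ t₂ : K) : List (ℕ × K) := [(S.rs, t₁), (S.rl, t₂)]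

theorem PairSide.wordU_w2 (S : PairSide K) (t₁ t₂ : K) :
    (hadd4 K).wordU (S.w2 t₁ t₂) = (hadd4 K).xU S.rs t₁ * (hadd4 K).xU S.rl t₂ := by
  unfold PairSide.w2
  simp only [wordU_cons, wordU_nil, mul_one]

/-- the positive roots of a subsystem of type `B₂` in characteristic 2: `a` short, `b` long -/
structure B2Side (K : Type*) [Field K] where
  ra : ℕ
  rb : ℕ
  r1 : ℕ
  r2 : ℕ
  hcomm : ∀ A B : K, (hadd4 K).xU rb B * (hadd4 K).xU ra A = (hadd4 K).xU ra A * (hadd4 K).xU rb B *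
    ((hadd4 K).xU r1 (A * B) * (hadd4 K).xU r2 (A ^ 2 * B))
  c12 : ∀ A B : K, Commute ((hadd4 K).xU r1 A) ((hadd4 K).xU r2 B)

/-- the compatibility of a class of type `B₂` with the twisting automorphism -/
structure B2Sg (S : B2Side K) : Prop where
  la : S.ra < chevF4.nroots
  lb : S.rb < chevF4.nroots
  l1 : S.r1 < chevF4.nroots
  l2 : S.r2 < chevF4.nroots
  ρa : F4.rho S.ra = S.rb
  ρb : F4.rho S.rb = S.ra
  ρ1 : F4.rho S.r1 = S.r2
  ρ2 : F4.rho S.r2 = S.r1
  ma : F4.lam S.ra = 2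
  mb : F4.lam S.rb = 1
  m1 : F4.lam S.r1 = 2
  m2 : F4.lam S.r2 = 1

/-- the words of a class of type `B₂` -/
def B2Side.w4 (S : B2Side K) (t₁ t₂ t₃ t₄ : K) : List (ℕ × K) :=
  [(S.ra, t₁), (S.rb, t₂), (S.r1, t₃), (S.r2, t₄)]

theorem B2Side.wordU_w4 (S : B2Side K) (t₁ t₂ t₃ t₄ : K) :
    (hadd4 K).wordU (S.w4 t₁ t₂ t₃ t₄)
      = (hadd4 K).xU S.ra t₁ * (hadd4 K).xU S.rb t₂ *
        ((hadd4 K).xU S.r1 t₃ * (hadd4 K).xU S.r2 t₄) := by
  unfold B2Side.w4
  simp only [wordU_cons, wordU_nil, mul_one, mul_assoc]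

/-- the product of four root elements in the order of the image of the canonical order under the
graph automorphism, in the canonical order -/
theorem B2Side.reorder (S : B2Side K) (A B C E : K) :
    (hadd4 K).xU S.rb B * (hadd4 K).xU S.ra A * ((hadd4 K).xU S.r2 C * (hadd4 K).xU S.r1 E)
      = (hadd4 K).xU S.ra A * (hadd4 K).xU S.rb B *
        ((hadd4 K).xU S.r1 (A * B + E) * (hadd4 K).xU S.r2 (A ^ 2 * B + C)) := by
  rw [S.hcomm A B, (S.c12 E C).symm.eq]
  have h : (hadd4 K).xU S.r1 (A * B) * (hadd4 K).xU S.r2 (A ^ 2 * B) *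
      ((hadd4 K).xU S.r1 E * (hadd4 K).xU S.r2 C)
      = (hadd4 K).xU S.r1 (A * B + E) * (hadd4 K).xU S.r2 (A ^ 2 * B + C) := by
    rw [← xU_add4, ← xU_add4]
    simp only [mul_assoc]
    rw [(S.c12 E (A ^ 2 * B)).symm.left_comm]
  rw [mul_assoc ((hadd4 K).xU S.ra A * (hadd4 K).xU S.rb B), h]

end general

section tw

variable {K : Type*} [Field K] [Fintype K] [CharP K 2] {m : ℕ}

omit [Fintype K] in
/-- the image of a word of a pair under the twisting automorphism, in canonical form -/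
theorem PairSg.sw_w2 {S : PairSide K} (h : PairSg S) (t₁ t₂ : K) :
    (hadd4 K).wordU (sw K m (S.w2 t₁ t₂))
      = (hadd4 K).wordU (S.w2 (ph1 K m t₂) (ph2 K m t₁)) := by
  rw [PairSide.wordU_w2, (S.comm _ _).eq]
  unfold sw PairSide.w2 fpar
  simp only [List.map_cons, List.map_nil, wordU_cons, wordU_nil, mul_one, h.ρs, h.ρl, h.ms, h.ml,
    pow_one, ph1_pow2]

/-- the words of a pair fixed by the twisting automorphism -/
noncomputable def PairSide.rw (S : PairSide K) (m : ℕ) (t : K) : List (ℕ × K) :=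
  S.w2 (ph1 K m t) t

theorem PairSg.sw_rw {S : PairSide K} (h : PairSg S) (hK : Fintype.card K = 2 ^ (2 * m + 1))
    (t : K) : (hadd4 K).wordU (sw K m (S.rw m t)) = (hadd4 K).wordU (S.rw m t) := by
  unfold PairSide.rw
  rw [h.sw_w2, ph2_ph1 hK]

theorem PairSg.rw_mem_fixR {S : PairSide K} (h : PairSg S)
    (hK : Fintype.card K = 2 ^ (2 * m + 1)) (t : K) :
    (hadd4 K).wordU (S.rw m t) ∈ fixR hK := by
  apply wordU_mem_fixR hK _ _ (h.sw_rw hK t)
  intro p hp
  unfold PairSide.rw PairSide.w2 at hp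
  simp only [List.mem_cons, List.not_mem_nil, or_false] at hp
  rcases hp with rfl | rfl
  · exact h.ls
  · exact h.ll

omit [Fintype K] in
/-- the image of a word of a class of type `B₂` under the twisting automorphism, in canonical
form -/
theorem B2Sg.sw_w4 {S : B2Side K} (h : B2Sg S) (t₁ t₂ t₃ t₄ : K) :
    (hadd4 K).wordU (sw K m (S.w4 t₁ t₂ t₃ t₄))
      = (hadd4 K).wordU (S.w4 (ph1 K m t₂) (ph2 K m t₁)
          (ph1 K m t₂ * ph2 K m t₁ + ph1 K m t₄) ((ph1 K m t₂) ^ 2 * ph2 K m t₁ + ph2 K m t₃)) := by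
  rw [B2Side.wordU_w4, ← S.reorder]
  unfold sw B2Side.w4 fpar
  simp only [List.map_cons, List.map_nil, wordU_cons, wordU_nil, mul_one, h.ρa, h.ρb, h.ρ1, h.ρ2,
    h.ma, h.mb, h.m1, h.m2, pow_one, ph1_pow2, mul_assoc]

/-- the words of a class of type `B₂` fixed by the twisting automorphism -/
noncomputable def B2Side.rw (S : B2Side K) (m : ℕ) (t u : K) : List (ℕ × K) :=
  S.w4 (ph1 K m t) t (ph1 K m t * t + u) (ph2 K m u)

theorem B2Sg.sw_rw {S : B2Side K} (h : B2Sg S) (hK : Fintype.card K = 2 ^ (2 * m + 1))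
    (t u : K) : (hadd4 K).wordU (sw K m (S.rw m t u)) = (hadd4 K).wordU (S.rw m t u) := by
  unfold B2Side.rw
  rw [h.sw_w4, ph2_ph1 hK, ph1_ph2 hK]
  congr 2
  rw [map_add, map_mul, ph2_ph1 hK, ph1_pow2]
  have h2 : ∀ x : K, x + x = 0 := fun x => CharTwo.add_self_eq_zero x
  calc ph2 K m t * t + (t * ph2 K m t + ph2 K m u)
      = (ph2 K m t * t + ph2 K m t * t) + ph2 K m u := by ring
    _ = ph2 K m u := by rw [h2, zero_add]

theorem B2Sg.rw_mem_fixR {S : B2Side K} (h : B2Sg S) (hK : Fintype.card K = 2 ^ (2 * m + 1))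
    (t u : K) : (hadd4 K).wordU (S.rw m t u) ∈ fixR hK := by
  apply wordU_mem_fixR hK _ _ (h.sw_rw hK t u)
  intro p hp
  unfold B2Side.rw B2Side.w4 at hp
  simp only [List.mem_cons, List.not_mem_nil, or_false] at hp
  rcases hp with rfl | rfl | rfl | rfl
  · exact h.la
  · exact h.lb
  · exact h.l1
  · exact h.l2

end tw

end Cfsg.Agent.Lib.Helper8.F4T
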