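import Cfsg.Agent.Lib.Helper5.Ree.Ids
import Cfsg.Agent.Lib.Helper5.GA.F4
import Cfsg.Agent.Lib.Helper5.Frob.Sigma
import Cfsg.Agent.Lib.Helper5.Chev.DataF4
import Mathlib

/-!
# The twisting automorphism of `F₄` over the field with `2^(2m+1)` elements (helper8)

`σ` is the composite of the exceptional graph automorphism and the field automorphism
`t ↦ t ^ (2^m)`; it sends `x_r(t)` to `x_{ρ r}((t ^ (2^m)) ^ λ(r))` and its square is the identity.
The layout follows helper5's `Ree/Sigma.lean`.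
-/

set_option autoImplicit false

namespace Cfsg.Agent.Lib.Helper8.F4T

open Cfsg.Lie Cfsg.Agent.Lib.Helper5.Chev Cfsg.Agent.Lib.Helper5.GA Cfsg.Agent.Lib.Helper5.Tw
open Cfsg.Agent.Lib.Helper5.Frob
open scoped Matrix

section charp

theorem charP2 {K : Type*} [Field K] [Fintype K] {m : ℕ}
    (hK : Fintype.card K = 2 ^ (2 * m + 1)) : CharP K 2 := by
  have h2 : (2 : K) = 0 := by
    have := Nat.cast_card_eq_zero K
    rw [hK] at this
    push_cast at this
    exact pow_eq_zero_iff (by omega) |>.1 this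
  have : ringChar K = 2 := CharP.ringChar_of_prime_eq_zero Nat.prime_two (by exact_mod_cast h2)
  exact ringChar.of_eq this

end charp

section

variable {K : Type*} [Field K] [Fintype K] [CharP K 2] {m : ℕ}

/-- `t ↦ t ^ (2^m)` -/
noncomputable def ph1 (K : Type*) [Field K] [CharP K 2] (m : ℕ) : K →+* K := iterateFrobenius K 2 m

/-- `t ↦ t ^ (2^(m+1))` -/
noncomputable def ph2 (K : Type*) [Field K] [CharP K 2] (m : ℕ) : K →+* K :=
  iterateFrobenius K 2 (m + 1)

omit [Fintype K] in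
theorem ph1_apply (x : K) : ph1 K m x = x ^ 2 ^ m := iterateFrobenius_def 2 m x

omit [Fintype K] in
theorem ph2_apply (x : K) : ph2 K m x = x ^ 2 ^ (m + 1) := iterateFrobenius_def 2 (m + 1) x

omit [Fintype K] in
theorem ph1_pow2 (x : K) : (ph1 K m x) ^ 2 = ph2 K m x := by
  rw [ph1_apply, ph2_apply, ← pow_mul, pow_succ]

theorem ph1_ph2 (hK : Fintype.card K = 2 ^ (2 * m + 1)) (x : K) : ph1 K m (ph2 K m x) = x := by
  rw [ph1_apply, ph2_apply, ← pow_mul, ← pow_add]
  have : m + 1 + m = 2 * m + 1 := by ring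
  rw [this, ← hK]
  exact FiniteField.pow_card x

theorem ph2_ph1 (hK : Fintype.card K = 2 ^ (2 * m + 1)) (x : K) : ph2 K m (ph1 K m x) = x := by
  rw [ph1_apply, ph2_apply, ← pow_mul, ← pow_add]
  have : m + (m + 1) = 2 * m + 1 := by ring
  rw [this, ← hK]
  exact FiniteField.pow_card x

omit [CharP K 2] in
theorem perfect2 (hK : Fintype.card K = 2 ^ (2 * m + 1)) (x : K) : ∃ y : K, y ^ 2 = x := by
  refine ⟨x ^ 2 ^ (2 * m), ?_⟩
  rw [← pow_mul, ← pow_succ, ← hK]
  exact FiniteField.pow_card x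

theorem hadd4 (K : Type*) [Field K] : AllAdd K chevF4 := allAdd_all chevF4 (by simp)

/-- the graph automorphism -/
noncomputable def alpha (hK : Fintype.card K = 2 ^ (2 * m + 1)) :
    ↥(chevF4.group K) ≃* ↥(chevF4.group K) :=
  Classical.choose (F4.exists_aut K (perfect2 hK))

theorem alpha_x (hK : Fintype.card K = 2 ^ (2 * m + 1)) (g : ↥(chevF4.group K)) (r : ℕ) (t : K)
    (hr : r < chevF4.nroots)
    (hg : ((g : GL chevF4.Idx K) : Matrix chevF4.Idx chevF4.Idx K) = chevF4.x K r t) :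
    ((alpha hK g : GL chevF4.Idx K) : Matrix chevF4.Idx chevF4.Idx K)
      = chevF4.x K (F4.rho r) (t ^ F4.lam r) :=
  Classical.choose_spec (F4.exists_aut K (perfect2 hK)) g r t hr hg

/-- the field automorphism on the Chevalley group -/
noncomputable def sigG (K : Type*) [Field K] [CharP K 2] (m : ℕ) :
    ↥(chevF4.group K) →* ↥(chevF4.group K) :=
  ((sig (D := chevF4) (ph1 K m)).comp (chevF4.group K).subtype).codRestrict (chevF4.group K)
    (fun g => sig_mem_group (ph1 K m) (hadd4 K) g.2)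

/-- the twisting automorphism -/
noncomputable def sg (hK : Fintype.card K = 2 ^ (2 * m + 1)) :
    ↥(chevF4.group K) →* ↥(chevF4.group K) :=
  (alpha hK).toMonoidHom.comp (sigG K m)

/-- the parameter of the image of a root element -/
noncomputable def fpar (K : Type*) [Field K] [CharP K 2] (m : ℕ) (r : ℕ) (t : K) : K :=
  (ph1 K m t) ^ F4.lam r

/-- the image of a word -/
noncomputable def sw (K : Type*) [Field K] [CharP K 2] (m : ℕ) (w : List (ℕ × K)) :
    List (ℕ × K) :=
  w.map fun p => (F4.rho p.1, fpar K m p.1 p.2)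

/-- the root element in the group -/
def xG (K : Type*) [Field K] (r : ℕ) (t : K) : ↥(chevF4.group K) :=
  ⟨(hadd4 K).xU r t, (hadd4 K).xU_mem_group r t⟩

/-- the word in the group -/
def wG (K : Type*) [Field K] (w : List (ℕ × K)) : ↥(chevF4.group K) :=
  ⟨(hadd4 K).wordU w, (hadd4 K).wordU_mem w⟩

omit [Fintype K] [CharP K 2] in
theorem wG_nil : wG K ([] : List (ℕ × K)) = 1 := rfl

omit [Fintype K] [CharP K 2] in
theorem wG_cons (a : ℕ × K) (w : List (ℕ × K)) : wG K (a :: w) = xG K a.1 a.2 * wG K w := by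
  apply Subtype.ext
  exact wordU_cons (hadd4 K) a w

omit [Fintype K] [CharP K 2] in
theorem wG_append (v w : List (ℕ × K)) : wG K (v ++ w) = wG K v * wG K w := by
  apply Subtype.ext
  exact Cfsg.Agent.Lib.Helper5.Tw.wordU_append (hadd4 K) v w

theorem sg_xG (hK : Fintype.card K = 2 ^ (2 * m + 1)) (r : ℕ) (hr : r < chevF4.nroots) (t : K) :
    sg hK (xG K r t) = xG K (F4.rho r) (fpar K m r t) := by
  apply Subtype.ext
  apply Units.ext
  show ((alpha hK (sigG K m (xG K r t)) : GL chevF4.Idx K) : Matrix chevF4.Idx chevF4.Idx K) = _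
  have e : ((sigG K m (xG K r t) : GL chevF4.Idx K) : Matrix chevF4.Idx chevF4.Idx K)
      = chevF4.x K r (ph1 K m t) := by
    show ((sig (D := chevF4) (ph1 K m) ((hadd4 K).xU r t) : GL chevF4.Idx K)
      : Matrix chevF4.Idx chevF4.Idx K) = _
    rw [sig_xU]
    rfl
  rw [alpha_x hK _ r _ hr e]
  rfl

theorem sg_wG (hK : Fintype.card K = 2 ^ (2 * m + 1)) (w : List (ℕ × K))
    (hw : ∀ p ∈ w, p.1 < chevF4.nroots) : sg hK (wG K w) = wG K (sw K m w) := by
  induction w with
  | nil =>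
    rw [wG_nil, map_one]
    rfl
  | cons a w ih =>
    rw [wG_cons, map_mul, sg_xG hK a.1 (hw a List.mem_cons_self),
      ih (fun p hp => hw p (List.mem_cons_of_mem _ hp))]
    show _ = wG K ((F4.rho a.1, fpar K m a.1 a.2) :: sw K m w)
    rw [wG_cons]

/-- the subgroup of the fixed points of the twisting automorphism -/
noncomputable def fixR (hK : Fintype.card K = 2 ^ (2 * m + 1)) : Subgroup (GL chevF4.Idx K) :=
  ((sg hK).eqLocus (MonoidHom.id _)).map (chevF4.group K).subtype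

theorem mem_fixR (hK : Fintype.card K = 2 ^ (2 * m + 1)) (g : GL chevF4.Idx K) :
    g ∈ fixR hK ↔ ∃ hg : g ∈ chevF4.group K, sg hK ⟨g, hg⟩ = ⟨g, hg⟩ := by
  unfold fixR
  rw [Subgroup.mem_map]
  constructor
  · rintro ⟨x, hx, rfl⟩
    exact ⟨x.2, hx⟩
  · rintro ⟨hg, h⟩
    exact ⟨⟨g, hg⟩, h, rfl⟩

theorem fixR_le_group (hK : Fintype.card K = 2 ^ (2 * m + 1)) : fixR hK ≤ chevF4.group K := by
  intro g hg
  obtain ⟨h, -⟩ := (mem_fixR hK g).1 hg
  exact h

theorem wordU_mem_fixR (hK : Fintype.card K = 2 ^ (2 * m + 1)) (w : List (ℕ × K))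
    (hw : ∀ p ∈ w, p.1 < chevF4.nroots)
    (h : (hadd4 K).wordU (sw K m w) = (hadd4 K).wordU w) : (hadd4 K).wordU w ∈ fixR hK := by
  rw [mem_fixR]
  refine ⟨(hadd4 K).wordU_mem w, ?_⟩
  have := sg_wG hK w hw
  rw [show (⟨(hadd4 K).wordU w, (hadd4 K).wordU_mem w⟩ : ↥(chevF4.group K)) = wG K w from rfl, this]
  exact Subtype.ext h

/-- the twisting automorphism is an involution on the root elements -/
theorem fpar_fpar (hK : Fintype.card K = 2 ^ (2 * m + 1)) (r : ℕ) (hr : r < chevF4.nroots)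
    (t : K) : fpar K m (F4.rho r) (fpar K m r t) = t := by
  unfold fpar
  rw [map_pow, ← pow_mul, F4.lam_mul r hr, ph1_pow2, ph2_ph1 hK]

theorem sg_sg_xG (hK : Fintype.card K = 2 ^ (2 * m + 1)) (r : ℕ) (hr : r < chevF4.nroots)
    (t : K) : sg hK (sg hK (xG K r t)) = xG K r t := by
  rw [sg_xG hK r hr, sg_xG hK _ (F4.rho_lt r hr), F4.rho_rho r hr, fpar_fpar hK r hr]

end

end Cfsg.Agent.Lib.Helper8.F4T
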