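import Cfsg.Agent.Lib.Helper5.F4W.BN
import Cfsg.Agent.Lib.Helper5.F4W.Core
import Cfsg.Agent.Lib.Helper5.Chev.TriAll
import Cfsg.Agent.Lib.Helper5.Chev.MonoB
import Cfsg.Agent.S0319
import Mathlib

/-!
# The large Ree groups are simple as soon as they are perfect (helper8)

The simplicity criterion for groups with a `(B, N)`-pair, applied to the `(B, N)`-pair of the
large Ree group (helper5's `F4W.bnPair`, `F4W.core_eq_bot`).
-/

set_option autoImplicit false
set_option maxRecDepth 100000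

namespace Cfsg.Agent.Lib.Helper8.F4T

open Cfsg.Lie Cfsg.Agent.Lib.Helper5.Chev Cfsg.Agent.Lib.Helper5.GA Cfsg.Agent.Lib.Helper5.Tw
open Cfsg.Agent.Lib.Helper5.F4W
open scoped Matrix

theorem act_ABAB_ne : WF.act (wA ++ wB ++ (wA ++ wB)) (WF.p 0) ≠ WF.act [] (WF.p 0) := by decide

theorem act_A_ne : WF.act wA (WF.p 0) ≠ WF.act [] (WF.p 0) := by decide

theorem isWord_ABAB : WF.IsWord (wA ++ wB ++ (wA ++ wB)) := by
  show ∀ x ∈ wA ++ wB ++ (wA ++ wB), x < WF.l
  decide

section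

variable {K : Type*} [Field K]

/-- the representative of `(s_A s_B)²` does not lie in `H` -/
theorem nW_ABAB_not_diag : nW K (wA ++ wB ++ (wA ++ wB)) ∉ chevF4.diagonalSubgroup K := by
  intro h
  have h1 : (nW K [])⁻¹ * nW K (wA ++ wB ++ (wA ++ wB)) ∈ chevF4.diagonalSubgroup K := by
    rw [nW_nil, inv_one, one_mul]
    exact h
  exact act_ABAB_ne ((act_eq_of_coset [] _ isWord_nil isWord_ABAB h1 _
    (p_lt4 0 (by norm_num))).symm)

theorem nW_A_not_diag : nW K wA ∉ chevF4.diagonalSubgroup K := by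
  intro h
  have h1 : (nW K [])⁻¹ * nW K wA ∈ chevF4.diagonalSubgroup K := by
    rw [nW_nil, inv_one, one_mul]
    exact h
  exact act_A_ne ((act_eq_of_coset [] _ isWord_nil isWord_wA h1 _ (p_lt4 0 (by norm_num))).symm)

/-- the commutator of the two representatives does not lie in `H` -/
theorem comm_AB_not_diag :
    nW K wA * nW K wB * (nW K wA)⁻¹ * (nW K wB)⁻¹ ∉ chevF4.diagonalSubgroup K := by
  intro hx
  apply nW_ABAB_not_diag (K := K)
  have hA := nW_sq_diag (K := K) wA (Or.inl rfl)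
  have hB := nW_sq_diag (K := K) wB (Or.inr rfl)
  have h1 := (mono_normalizes (nW K wB) (nW K wA * nW K wA) (nW_mem_mono _) hA).1
  have e : nW K (wA ++ wB ++ (wA ++ wB))
      = nW K wA * nW K wB * (nW K wA)⁻¹ * (nW K wB)⁻¹ *
        (nW K wB * (nW K wA * nW K wA) * (nW K wB)⁻¹) * (nW K wB * nW K wB) := by
    rw [nW_append, nW_append]
    group
  rw [e]
  exact Subgroup.mul_mem _ (Subgroup.mul_mem _ hx h1) hB

theorem comm_BA_not_diag :
    nW K wB * nW K wA * (nW K wB)⁻¹ * (nW K wA)⁻¹ ∉ chevF4.diagonalSubgroup K := by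
  intro hx
  apply comm_AB_not_diag (K := K)
  have e : nW K wA * nW K wB * (nW K wA)⁻¹ * (nW K wB)⁻¹
      = (nW K wB * nW K wA * (nW K wB)⁻¹ * (nW K wA)⁻¹)⁻¹ := by group
  rw [e]
  exact Subgroup.inv_mem _ hx

end

section

variable {K : Type*} [Field K] [Fintype K] [CharP K 2] {m : ℕ}

omit [Fintype K] [CharP K 2] in
theorem borel_inf_mono4 :
    chevF4.borelSubgroup K ⊓ chevF4.monomialSubgroup K = chevF4.diagonalSubgroup K :=
  (borel_inf_monomial_all chevF4 hD4).2

omit [Fintype K] in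
theorem sA_ne_one : sA K m ≠ 1 := by
  intro h
  apply nW_A_not_diag (K := K)
  have h1 : nW K wA = 1 := congrArg Subtype.val h
  rw [h1]
  exact Subgroup.one_mem _

omit [Fintype K] in
theorem comm_sAsB_not_B1 : sA K m * sB K m * (sA K m)⁻¹ * (sB K m)⁻¹ ∉ B1 K m := by
  intro h
  rw [mem_B1] at h
  apply comm_AB_not_diag (K := K)
  rw [← borel_inf_mono4]
  refine ⟨h, ?_⟩
  exact Subgroup.mul_mem _ (Subgroup.mul_mem _ (Subgroup.mul_mem _ (nW_mem_mono _)
    (nW_mem_mono _)) (Subgroup.inv_mem _ (nW_mem_mono _))) (Subgroup.inv_mem _ (nW_mem_mono _))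

omit [Fintype K] in
theorem comm_sBsA_not_B1 : sB K m * sA K m * (sB K m)⁻¹ * (sA K m)⁻¹ ∉ B1 K m := by
  intro h
  rw [mem_B1] at h
  apply comm_BA_not_diag (K := K)
  rw [← borel_inf_mono4]
  refine ⟨h, ?_⟩
  exact Subgroup.mul_mem _ (Subgroup.mul_mem _ (Subgroup.mul_mem _ (nW_mem_mono _)
    (nW_mem_mono _)) (Subgroup.inv_mem _ (nW_mem_mono _))) (Subgroup.inv_mem _ (nW_mem_mono _))

/-- a perfect large Ree group is simple and not commutative -/
theorem twisted_simple_of_perfect (hK : Fintype.card K = 2 ^ (2 * m + 1))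
    (hperf : commutator ↥(twistedF4 K (2 ^ m)) = ⊤) :
    IsSimpleGroup ↥(twistedF4 K (2 ^ m)) ∧ ¬ IsMulCommutative ↥(twistedF4 K (2 ^ m)) := by
  classical
  obtain ⟨P, hPB, hPN, hPS⟩ := bnPair hK
  have hx0 : sA K m ≠ 1 := sA_ne_one
  have : Nontrivial ↥(twistedF4 K (2 ^ m)) := ⟨⟨sA K m, 1, hx0⟩⟩
  have hirr : P.Irreducible := by
    intro J hJ hJne hJne'
    obtain ⟨s, hs⟩ := hJne
    obtain ⟨s', hs', hs'n⟩ := hJne'
    have h1 := hJ hs
    rw [hPS] at h1 hs'
    rw [Set.mem_insert_iff, Set.mem_singleton_iff] at h1 hs'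
    rcases h1 with h1 | h1 <;> rcases hs' with h2 | h2
    · exfalso
      apply hs'n
      rw [h2, ← h1]
      exact hs
    · refine ⟨s, hs, s', ⟨by rw [hPS, h2]; exact Set.mem_insert_of_mem _ rfl, hs'n⟩, ?_⟩
      rw [hPB, h1, h2]
      exact comm_sAsB_not_B1
    · refine ⟨s, hs, s', ⟨by rw [hPS, h2]; exact Set.mem_insert _ _, hs'n⟩, ?_⟩
      rw [hPB, h1, h2]
      exact comm_sBsA_not_B1
    · exfalso
      apply hs'n
      rw [h2, ← h1]
      exact hs
  have hsolv : Group.IsSolvable P.B := by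
    rw [hPB]
    have := solvable_all (F := K) chevF4 hD4
    have hle1 : chevF4.borelSubgroup K ⊓ twistedF4 K (2 ^ m) ≤ twistedF4 K (2 ^ m) := inf_le_right
    have hle2 : chevF4.borelSubgroup K ⊓ twistedF4 K (2 ^ m) ≤ chevF4.borelSubgroup K :=
      inf_le_left
    exact Group.isSolvable_of_isSolvable_injective
      (f := (Subgroup.inclusion hle2).comp (Subgroup.subgroupOfEquivOfLe hle1).toMonoidHom)
      ((Subgroup.inclusion_injective hle2).comp (Subgroup.subgroupOfEquivOfLe hle1).injective)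
  have hcore' : P.B.normalCore = ⊥ := by
    rw [hPB]
    exact core_eq_bot hK
  constructor
  · exact Cfsg.Agent.S0319.result P hirr hsolv hperf hcore'
  · intro hc
    have hbot : commutator ↥(twistedF4 K (2 ^ m)) = ⊥ := by
      rw [commutator_def, Subgroup.commutator_eq_bot_iff_le_centralizer]
      intro a _
      rw [Subgroup.mem_centralizer_iff]
      intro b _
      exact hc.is_comm.comm b a
    rw [hbot] at hperf
    have : sA K m ∈ (⊤ : Subgroup ↥(twistedF4 K (2 ^ m))) := Subgroup.mem_top _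
    rw [← hperf, Subgroup.mem_bot] at this
    exact hx0 this

end

end Cfsg.Agent.Lib.Helper8.F4T
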