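import Cfsg.Agent.Lib.Helper8.F4T.Sigma
import Cfsg.Agent.Lib.Helper5.Tw.TorusTw
import Cfsg.Agent.Lib.Helper5.Frob.HFix
import Mathlib

/-!
# The fixed points of the twisting automorphism of `F₄` in the diagonal subgroup (helper8)

The layout follows helper5's `Ree/Torus.lean`.
-/

set_option autoImplicit false

namespace Cfsg.Agent.Lib.Helper8.F4T

open Cfsg.Lie Cfsg.Agent.Lib.Helper5.Chev Cfsg.Agent.Lib.Helper5.GA Cfsg.Agent.Lib.Helper5.Tw
open Cfsg.Agent.Lib.Helper5.Frob
open scoped Matrix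

section

variable {K : Type*} [Field K] [Fintype K] [CharP K 2] {m : ℕ}

/-- `n_r(t)` in the group -/
def nG (K : Type*) [Field K] (r : ℕ) (t : K) : ↥(chevF4.group K) :=
  xG K r t * xG K (chevF4.neg r) (-t⁻¹) * xG K r t

/-- `h_r(t)` in the group -/
def hG (K : Type*) [Field K] (r : ℕ) (t : K) : ↥(chevF4.group K) := nG K r t * nG K r (-1)

omit [Fintype K] [CharP K 2] in
theorem nG_val (r : ℕ) (t : K) : ((nG K r t : ↥(chevF4.group K)) : GL chevF4.Idx K)
    = nUt (hadd4 K) r t := rfl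

omit [Fintype K] [CharP K 2] in
theorem hG_val (r : ℕ) (t : K) : ((hG K r t : ↥(chevF4.group K)) : GL chevF4.Idx K)
    = nUt (hadd4 K) r t * nUt (hadd4 K) r (-1) := rfl

omit [Fintype K] in
theorem fpar_neg_inv (r : ℕ) (hr : r < chevF4.nroots) (t : K) :
    fpar K m (chevF4.neg r) (-t⁻¹) = -(fpar K m r t)⁻¹ := by
  unfold fpar
  rw [F4.lam_neg r hr, CharTwo.neg_eq, CharTwo.neg_eq, map_inv₀, inv_pow]

omit [Fintype K] in
theorem fpar_neg_one (r : ℕ) : fpar K m r (-1) = -1 := by
  unfold fpar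
  rw [CharTwo.neg_eq, map_one, one_pow]

theorem neg_lt4 : ∀ r < chevF4.nroots, chevF4.neg r < chevF4.nroots := by decide

theorem sg_nG (hK : Fintype.card K = 2 ^ (2 * m + 1)) (r : ℕ) (hr : r < chevF4.nroots) (t : K) :
    sg hK (nG K r t) = nG K (F4.rho r) (fpar K m r t) := by
  have hn : chevF4.neg r < chevF4.nroots := neg_lt4 r hr
  unfold nG
  rw [map_mul, map_mul, sg_xG hK r hr, sg_xG hK _ hn, F4.rho_neg r hr, fpar_neg_inv r hr]

theorem sg_hG (hK : Fintype.card K = 2 ^ (2 * m + 1)) (r : ℕ) (hr : r < chevF4.nroots) (t : K) :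
    sg hK (hG K r t) = hG K (F4.rho r) (fpar K m r t) := by
  unfold hG
  rw [map_mul, sg_nG hK r hr, sg_nG hK r hr, fpar_neg_one r]

/-- the parametrisation of the diagonal subgroup, in the group -/
noncomputable def torG (K : Type*) [Field K] : (Fin chevF4.rank → Kˣ) →* ↥(chevF4.group K) :=
  (Helper5.Tw.hU K chevF4).codRestrict (chevF4.group K) (fun c => by
    apply (hadd4 K).diagonal_le
    have : Helper5.Tw.hU K chevF4 c ∈ (chevF4.diagonalSubgroup K : Set (GL chevF4.Idx K)) := by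
      rw [range_hU (by simp)]
      exact ⟨c, rfl⟩
    exact this)

omit [Fintype K] [CharP K 2] in
theorem torG_val (c : Fin chevF4.rank → Kˣ) :
    ((torG K c : ↥(chevF4.group K)) : GL chevF4.Idx K) = Helper5.Tw.hU K chevF4 c := rfl

omit [Fintype K] [CharP K 2] in
theorem torG_single (i : Fin chevF4.rank) (a : Kˣ) :
    torG K (Pi.mulSingle i a) = hG K (chevF4.simple i) (a : K) := by
  apply Subtype.ext
  rw [torG_val, hG_val]
  exact hU_single (by simp) (hadd4 K) i a

/-- the indices of the four fundamental roots -/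
def j0 : Fin chevF4.rank := ⟨0, by decide⟩
def j1 : Fin chevF4.rank := ⟨1, by decide⟩
def j2 : Fin chevF4.rank := ⟨2, by decide⟩
def j3 : Fin chevF4.rank := ⟨3, by decide⟩

theorem fin4_cases (i : Fin chevF4.rank) : i = j0 ∨ i = j1 ∨ i = j2 ∨ i = j3 := by
  rcases i with ⟨i, hi⟩
  have : i < 4 := hi
  interval_cases i
  · exact Or.inl rfl
  · exact Or.inr (Or.inl rfl)
  · exact Or.inr (Or.inr (Or.inl rfl))
  · exact Or.inr (Or.inr (Or.inr rfl))

/-- the function with four given values -/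
def c4 {α : Type*} (a0 a1 a2 a3 : α) : Fin chevF4.rank → α := fun i =>
  if i = j0 then a0 else if i = j1 then a1 else if i = j2 then a2 else a3

theorem c4_j0 {α : Type*} (a0 a1 a2 a3 : α) : c4 a0 a1 a2 a3 j0 = a0 := rfl
theorem c4_j1 {α : Type*} (a0 a1 a2 a3 : α) : c4 a0 a1 a2 a3 j1 = a1 := rfl
theorem c4_j2 {α : Type*} (a0 a1 a2 a3 : α) : c4 a0 a1 a2 a3 j2 = a2 := rfl
theorem c4_j3 {α : Type*} (a0 a1 a2 a3 : α) : c4 a0 a1 a2 a3 j3 = a3 := rfl

theorem c4_eta {α : Type*} (c : Fin chevF4.rank → α) : c = c4 (c j0) (c j1) (c j2) (c j3) := by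
  funext i
  rcases fin4_cases i with rfl | rfl | rfl | rfl <;> rfl

omit [Fintype K] [CharP K 2] in
theorem c4_eq_single_mul (a0 a1 a2 a3 : Kˣ) :
    c4 a0 a1 a2 a3 = Pi.mulSingle j0 a0 * Pi.mulSingle j1 a1 * Pi.mulSingle j2 a2 *
      Pi.mulSingle j3 a3 := by
  funext i
  rcases fin4_cases i with rfl | rfl | rfl | rfl
  · rw [c4_j0, Pi.mul_apply, Pi.mul_apply, Pi.mul_apply, Pi.mulSingle_eq_same,
      Pi.mulSingle_eq_of_ne (by decide), Pi.mulSingle_eq_of_ne (by decide),
      Pi.mulSingle_eq_of_ne (by decide), mul_one, mul_one, mul_one]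
  · rw [c4_j1, Pi.mul_apply, Pi.mul_apply, Pi.mul_apply, Pi.mulSingle_eq_same,
      Pi.mulSingle_eq_of_ne (by decide), Pi.mulSingle_eq_of_ne (by decide),
      Pi.mulSingle_eq_of_ne (by decide), one_mul, mul_one, mul_one]
  · rw [c4_j2, Pi.mul_apply, Pi.mul_apply, Pi.mul_apply, Pi.mulSingle_eq_same,
      Pi.mulSingle_eq_of_ne (by decide), Pi.mulSingle_eq_of_ne (by decide),
      Pi.mulSingle_eq_of_ne (by decide), one_mul, one_mul, mul_one]
  · rw [c4_j3, Pi.mul_apply, Pi.mul_apply, Pi.mul_apply, Pi.mulSingle_eq_same,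
      Pi.mulSingle_eq_of_ne (by decide), Pi.mulSingle_eq_of_ne (by decide),
      Pi.mulSingle_eq_of_ne (by decide), one_mul, one_mul, one_mul]

/-- the action of the twisting automorphism on the parameters of the diagonal subgroup -/
noncomputable def swapc (K : Type*) [Field K] [CharP K 2] (m : ℕ) (c : Fin chevF4.rank → Kˣ) :
    Fin chevF4.rank → Kˣ :=
  c4 (Units.map (ph1 K m : K →* K) (c j3)) (Units.map (ph1 K m : K →* K) (c j2))
    (Units.map (ph2 K m : K →* K) (c j1)) (Units.map (ph2 K m : K →* K) (c j0))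

theorem sg_torG_single0 (hK : Fintype.card K = 2 ^ (2 * m + 1)) (a : Kˣ) :
    sg hK (torG K (Pi.mulSingle j0 a))
      = torG K (Pi.mulSingle j3 (Units.map (ph2 K m : K →* K) a)) := by
  rw [torG_single, torG_single, sg_hG hK _ (by decide)]
  show hG K 24 (fpar K m 33 _) = hG K 24 _
  congr 1
  unfold fpar
  exact ph1_pow2 _

theorem sg_torG_single1 (hK : Fintype.card K = 2 ^ (2 * m + 1)) (a : Kˣ) :
    sg hK (torG K (Pi.mulSingle j1 a))
      = torG K (Pi.mulSingle j2 (Units.map (ph2 K m : K →* K) a)) := by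
  rw [torG_single, torG_single, sg_hG hK _ (by decide)]
  show hG K 25 (fpar K m 27 _) = hG K 25 _
  congr 1
  unfold fpar
  exact ph1_pow2 _

theorem sg_torG_single2 (hK : Fintype.card K = 2 ^ (2 * m + 1)) (a : Kˣ) :
    sg hK (torG K (Pi.mulSingle j2 a))
      = torG K (Pi.mulSingle j1 (Units.map (ph1 K m : K →* K) a)) := by
  rw [torG_single, torG_single, sg_hG hK _ (by decide)]
  show hG K 27 (fpar K m 25 _) = hG K 27 _
  congr 1
  unfold fpar
  exact pow_one _

theorem sg_torG_single3 (hK : Fintype.card K = 2 ^ (2 * m + 1)) (a : Kˣ) :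
    sg hK (torG K (Pi.mulSingle j3 a))
      = torG K (Pi.mulSingle j0 (Units.map (ph1 K m : K →* K) a)) := by
  rw [torG_single, torG_single, sg_hG hK _ (by decide)]
  show hG K 33 (fpar K m 24 _) = hG K 33 _
  congr 1
  unfold fpar
  exact pow_one _

theorem sg_torG (hK : Fintype.card K = 2 ^ (2 * m + 1)) (c : Fin chevF4.rank → Kˣ) :
    sg hK (torG K c) = torG K (swapc K m c) := by
  conv_lhs => rw [c4_eta c, c4_eq_single_mul]
  unfold swapc
  rw [c4_eq_single_mul, map_mul, map_mul, map_mul, map_mul, map_mul, map_mul,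
    sg_torG_single0 hK, sg_torG_single1 hK, sg_torG_single2 hK, sg_torG_single3 hK,
    ← map_mul, ← map_mul, ← map_mul]
  congr 1
  ac_rfl

omit [CharP K 2] in
theorem torG_injective : Function.Injective (torG K) := by
  intro c c' h
  have h' : Helper5.Tw.hU K chevF4 c = Helper5.Tw.hU K chevF4 c' := congrArg Subtype.val h
  rw [hU_apply, hU_apply] at h'
  exact zact_injective (D := chevF4) (by simp) (diagU_injective h')

/-- the parameters of the fixed points in the diagonal subgroup -/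
noncomputable def tauC (K : Type*) [Field K] [CharP K 2] (m : ℕ) (μ : Kˣ × Kˣ) :
    Fin chevF4.rank → Kˣ :=
  c4 (Units.map (ph1 K m : K →* K) μ.1) (Units.map (ph1 K m : K →* K) μ.2) μ.2 μ.1

/-- the fixed points in the diagonal subgroup, as a homomorphism from two copies of the
multiplicative group of the field -/
noncomputable def tauT (K : Type*) [Field K] [CharP K 2] (m : ℕ) :
    Kˣ × Kˣ →* GL chevF4.Idx K where
  toFun μ := Helper5.Tw.hU K chevF4 (tauC K m μ)
  map_one' := by
    have : tauC K m (1 : Kˣ × Kˣ) = 1 := by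
      funext i
      rcases fin4_cases i with rfl | rfl | rfl | rfl <;> simp [tauC, c4_j0, c4_j1, c4_j2, c4_j3]
    rw [this, map_one]
  map_mul' a b := by
    rw [← map_mul]
    congr 1
    funext i
    rcases fin4_cases i with rfl | rfl | rfl | rfl <;>
      simp [tauC, c4_j0, c4_j1, c4_j2, c4_j3]

omit [Fintype K] in
theorem tauT_apply (μ : Kˣ × Kˣ) : tauT K m μ = Helper5.Tw.hU K chevF4 (tauC K m μ) := rfl

omit [CharP K 2] in
theorem tauT_injective [CharP K 2] : Function.Injective (tauT K m) := by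
  intro a b h
  have h1 : torG K (tauC K m a) = torG K (tauC K m b) := Subtype.ext (by
    rw [torG_val, torG_val]; exact h)
  have h2 := torG_injective h1
  have e3 := congrFun h2 j3
  have e2 := congrFun h2 j2
  unfold tauC at e2 e3
  rw [c4_j3, c4_j3] at e3
  rw [c4_j2, c4_j2] at e2
  exact Prod.ext e3 e2

theorem swapc_tauC (hK : Fintype.card K = 2 ^ (2 * m + 1)) (μ : Kˣ × Kˣ) :
    swapc K m (tauC K m μ) = tauC K m μ := by
  unfold swapc tauC
  rw [c4_j0, c4_j1, c4_j2, c4_j3]
  congr 1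
  · apply Units.ext
    show ph2 K m (ph1 K m (μ.2 : K)) = μ.2
    exact ph2_ph1 hK _
  · apply Units.ext
    show ph2 K m (ph1 K m (μ.1 : K)) = μ.1
    exact ph2_ph1 hK _

/-- the elements of the diagonal subgroup fixed by the twisting automorphism -/
theorem diag_fixed_iff (hK : Fintype.card K = 2 ^ (2 * m + 1)) (h : GL chevF4.Idx K) :
    h ∈ chevF4.diagonalSubgroup K ⊓ fixR hK ↔ h ∈ (tauT K m).range := by
  constructor
  · rintro ⟨hh, hf⟩
    have hh' : h ∈ (chevF4.diagonalSubgroup K : Set (GL chevF4.Idx K)) := hh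
    rw [range_hU (by simp)] at hh'
    obtain ⟨c, rfl⟩ := hh'
    obtain ⟨hG, hfix⟩ := (mem_fixR hK _).1 hf
    have e : sg hK (torG K c) = torG K c := hfix
    rw [sg_torG hK] at e
    have e' := torG_injective e
    refine ⟨(c j3, c j2), ?_⟩
    show Helper5.Tw.hU K chevF4 _ = Helper5.Tw.hU K chevF4 c
    congr 1
    have e0 := congrFun e' j0
    have e1 := congrFun e' j1
    unfold swapc at e0 e1
    rw [c4_j0] at e0
    rw [c4_j1] at e1
    unfold tauC
    rw [e0, e1]
    exact (c4_eta c).symm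
  · rintro ⟨μ, rfl⟩
    have hmem : Helper5.Tw.hU K chevF4 (tauC K m μ) ∈ chevF4.diagonalSubgroup K := by
      have : Helper5.Tw.hU K chevF4 (tauC K m μ) ∈ (chevF4.diagonalSubgroup K : Set (GL chevF4.Idx K)) := by
        rw [range_hU (by simp)]
        exact ⟨_, rfl⟩
      exact this
    refine ⟨hmem, ?_⟩
    show Helper5.Tw.hU K chevF4 (tauC K m μ) ∈ fixR hK
    rw [mem_fixR]
    refine ⟨(hadd4 K).diagonal_le hmem, ?_⟩
    have e : sg hK (torG K (tauC K m μ)) = torG K (tauC K m μ) := by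
      rw [sg_torG hK, swapc_tauC hK]
    exact e

/-- the subgroup of the fixed points in the diagonal subgroup has `(q - 1)^2` elements -/
theorem card_diag_fixed (hK : Fintype.card K = 2 ^ (2 * m + 1)) :
    Nat.card ↥(chevF4.diagonalSubgroup K ⊓ fixR hK) = (2 ^ (2 * m + 1) - 1) ^ 2 := by
  classical
  have e : chevF4.diagonalSubgroup K ⊓ fixR hK = (tauT K m).range := by
    ext h
    exact diag_fixed_iff hK h
  rw [e, Nat.card_congr (MonoidHom.ofInjective (tauT_injective (K := K) (m := m))).toEquiv.symm,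
    Nat.card_prod, Nat.card_eq_fintype_card, Fintype.card_units, hK, sq]

end

end Cfsg.Agent.Lib.Helper8.F4T
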