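import Cfsg.Agent.Lib.Helper8.F4T.Gen
import Cfsg.Agent.Lib.Helper5.Tw.Ordered
import Mathlib

/-!
# The elements of `U` fixed by the twisting automorphism of `F₄`, in coordinates (helper8)
-/

set_option autoImplicit false
set_option maxRecDepth 100000

namespace Cfsg.Agent.Lib.Helper8.F4T

open Cfsg.Lie Cfsg.Agent.Lib.Helper5.Chev Cfsg.Agent.Lib.Helper5.GA Cfsg.Agent.Lib.Helper5.Tw
open Cfsg.Agent.Lib.Helper5.Frob Cfsg.Agent.Lib.Helper5.Ree
open scoped Matrix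

/-- the order of the positive roots by classes -/
def L0 : List ℕ :=
  [33, 24, 34, 26, 36, 42, 38, 43, 29, 41, 44, 47, 39, 45, 35, 31, 40, 46, 37, 32, 27, 25, 28, 30]

theorem ordL0 : OrdOK chevF4 L0 :=
  ⟨by decide +kernel, by decide +kernel, by decide +kernel, by decide +kernel⟩

theorem L0_nodup : L0.Nodup := by decide

section lookup

variable {K : Type*} [Field K]

/-- the parameters of a word -/
def parOf (w : List (ℕ × K)) : ℕ → K := fun r => (w.lookup r).getD 0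

theorem wordL_parOf : ∀ (w : List (ℕ × K)), (w.map Prod.fst).Nodup →
    wordL (w.map Prod.fst) (parOf w) = w
  | [], _ => rfl
  | p :: w, hnd => by
    rw [List.map_cons, List.nodup_cons] at hnd
    have ih := wordL_parOf w hnd.2
    show (p.1, parOf (p :: w) p.1) :: wordL (w.map Prod.fst) (parOf (p :: w)) = p :: w
    have e1 : parOf (p :: w) p.1 = p.2 := by
      unfold parOf
      rw [List.lookup_cons_self]
      rfl
    have e2 : wordL (w.map Prod.fst) (parOf (p :: w)) = wordL (w.map Prod.fst) (parOf w) := by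
      apply wordL_congr
      intro r hr
      have hne : r ≠ p.1 := fun h => hnd.1 (h ▸ hr)
      unfold parOf
      rw [List.lookup_cons, beq_false_of_ne hne]
    rw [e1, e2, ih]

/-- two words along the same good order of the positive roots with the same product are equal -/
theorem word_eq_of_fst [Finite K] {L : List ℕ} (h : OrdOK chevF4 L) (hnd : L.Nodup)
    (w w' : List (ℕ × K)) (hw : w.map Prod.fst = L) (hw' : w'.map Prod.fst = L)
    (e : (hadd4 K).wordU w = (hadd4 K).wordU w') : w = w' := by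
  have e1 := wordL_parOf w (by rw [hw]; exact hnd)
  have e2 := wordL_parOf w' (by rw [hw']; exact hnd)
  rw [hw] at e1
  rw [hw'] at e2
  rw [← e1, ← e2] at e
  have := wordL_injective (by simp) (hadd4 K) L h _ _ e
  rw [← e1, ← e2]
  exact wordL_congr L _ _ this

end lookup

section

variable {K : Type*} [Field K] [Fintype K] [CharP K 2] {m : ℕ}

omit [Fintype K] in
theorem sw_append (v w : List (ℕ × K)) : sw K m (v ++ w) = sw K m v ++ sw K m w := by
  unfold sw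
  rw [List.map_append]

/-- the word with arbitrary parameters along the order `L0`, by classes -/
def gw (K : Type*) [Field K] [CharP K 2] (τ : ℕ → K) : List (ℕ × K) :=
  (P1 K).w2 (τ 33) (τ 24) ++ ((Q1 K).w4 (τ 34) (τ 26) (τ 36) (τ 42) ++
  ((P2 K).w2 (τ 38) (τ 43) ++ ((Q2 K).w4 (τ 29) (τ 41) (τ 44) (τ 47) ++
  ((P3 K).w2 (τ 39) (τ 45) ++ ((Q3 K).w4 (τ 35) (τ 31) (τ 40) (τ 46) ++
  ((P4 K).w2 (τ 37) (τ 32) ++ (Q4 K).w4 (τ 27) (τ 25) (τ 28) (τ 30)))))))

omit [Fintype K] in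
theorem wordL_L0 (τ : ℕ → K) : wordL L0 τ = gw K τ := rfl

/-- the image of the word with arbitrary parameters, in canonical form -/
noncomputable def gwImg (K : Type*) [Field K] [CharP K 2] (m : ℕ) (τ : ℕ → K) : List (ℕ × K) :=
  (P1 K).w2 (ph1 K m (τ 24)) (ph2 K m (τ 33)) ++
  ((Q1 K).w4 (ph1 K m (τ 26)) (ph2 K m (τ 34))
    (ph1 K m (τ 26) * ph2 K m (τ 34) + ph1 K m (τ 42))
    ((ph1 K m (τ 26)) ^ 2 * ph2 K m (τ 34) + ph2 K m (τ 36)) ++
  ((P2 K).w2 (ph1 K m (τ 43)) (ph2 K m (τ 38)) ++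
  ((Q2 K).w4 (ph1 K m (τ 41)) (ph2 K m (τ 29))
    (ph1 K m (τ 41) * ph2 K m (τ 29) + ph1 K m (τ 47))
    ((ph1 K m (τ 41)) ^ 2 * ph2 K m (τ 29) + ph2 K m (τ 44)) ++
  ((P3 K).w2 (ph1 K m (τ 45)) (ph2 K m (τ 39)) ++
  ((Q3 K).w4 (ph1 K m (τ 31)) (ph2 K m (τ 35))
    (ph1 K m (τ 31) * ph2 K m (τ 35) + ph1 K m (τ 46))
    ((ph1 K m (τ 31)) ^ 2 * ph2 K m (τ 35) + ph2 K m (τ 40)) ++
  ((P4 K).w2 (ph1 K m (τ 32)) (ph2 K m (τ 37)) ++
  (Q4 K).w4 (ph1 K m (τ 25)) (ph2 K m (τ 27))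
    (ph1 K m (τ 25) * ph2 K m (τ 27) + ph1 K m (τ 30))
    ((ph1 K m (τ 25)) ^ 2 * ph2 K m (τ 27) + ph2 K m (τ 28))))))))

omit [Fintype K] in
theorem wordU_sw_gw (τ : ℕ → K) :
    (hadd4 K).wordU (sw K m (gw K τ)) = (hadd4 K).wordU (gwImg K m τ) := by
  unfold gw gwImg
  simp only [sw_append, Helper5.Tw.wordU_append, (P1sg K).sw_w2, (P2sg K).sw_w2, (P3sg K).sw_w2,
    (P4sg K).sw_w2, (Q1sg K).sw_w4, (Q2sg K).sw_w4, (Q3sg K).sw_w4, (Q4sg K).sw_w4]

omit [Fintype K] in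
theorem gw_fst (τ : ℕ → K) : (gw K τ).map Prod.fst = L0 := rfl

omit [Fintype K] in
theorem gwImg_fst (τ : ℕ → K) : (gwImg K m τ).map Prod.fst = L0 := rfl

/-- the words of the fixed elements of `U` -/
noncomputable def uw (K : Type*) [Field K] [CharP K 2] (m : ℕ) (p : Fin 12 → K) : List (ℕ × K) :=
  (P1 K).rw m (p 0) ++ ((Q1 K).rw m (p 1) (p 2) ++
  ((P2 K).rw m (p 3) ++ ((Q2 K).rw m (p 4) (p 5) ++
  ((P3 K).rw m (p 6) ++ ((Q3 K).rw m (p 7) (p 8) ++
  ((P4 K).rw m (p 9) ++ (Q4 K).rw m (p 10) (p 11)))))))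

omit [Fintype K] in
theorem uw_fst (p : Fin 12 → K) : (uw K m p).map Prod.fst = L0 := rfl

omit [Fintype K] in
theorem uw_mem_pos (p : Fin 12 → K) : (hadd4 K).wordU (uw K m p) ∈ chevF4.posUnipotent K := by
  rw [← UL_eq_posUnipotent (K := K) ordL0]
  apply wordU_mem_UL
  intro q hq
  have : q.1 ∈ (uw K m p).map Prod.fst := List.mem_map_of_mem hq
  rw [uw_fst] at this
  exact this

theorem uw_mem_fixR (hK : Fintype.card K = 2 ^ (2 * m + 1)) (p : Fin 12 → K) :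
    (hadd4 K).wordU (uw K m p) ∈ fixR hK := by
  unfold uw
  simp only [Helper5.Tw.wordU_append]
  exact Subgroup.mul_mem _ ((P1sg K).rw_mem_fixR hK _) (Subgroup.mul_mem _
    ((Q1sg K).rw_mem_fixR hK _ _) (Subgroup.mul_mem _ ((P2sg K).rw_mem_fixR hK _)
    (Subgroup.mul_mem _ ((Q2sg K).rw_mem_fixR hK _ _) (Subgroup.mul_mem _
    ((P3sg K).rw_mem_fixR hK _) (Subgroup.mul_mem _ ((Q3sg K).rw_mem_fixR hK _ _)
    (Subgroup.mul_mem _ ((P4sg K).rw_mem_fixR hK _) ((Q4sg K).rw_mem_fixR hK _ _)))))))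

/-- the parameters of a fixed element of `U` are determined -/
theorem uw_injective (p p' : Fin 12 → K)
    (e : (hadd4 K).wordU (uw K m p) = (hadd4 K).wordU (uw K m p')) : p = p' := by
  have h := word_eq_of_fst ordL0 L0_nodup _ _ (uw_fst p) (uw_fst p') e
  unfold uw PairSide.rw B2Side.rw PairSide.w2 B2Side.w4 at h
  simp only [List.cons_append, List.nil_append, List.cons.injEq, Prod.mk.injEq, true_and,
    and_true] at h
  obtain ⟨-, h0, -, h1, h2a, -, -, h3, -, h4, h5a, -, -, h6, -, h7, h8a, -, -, h9, -, h10, h11a, -⟩ := h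
  have h2 : p 2 = p' 2 := by rw [h1] at h2a; exact add_left_cancel h2a
  have h5 : p 5 = p' 5 := by rw [h4] at h5a; exact add_left_cancel h5a
  have h8 : p 8 = p' 8 := by rw [h7] at h8a; exact add_left_cancel h8a
  have h11 : p 11 = p' 11 := by rw [h10] at h11a; exact add_left_cancel h11a
  funext i
  fin_cases i <;> assumption

/-- the elements of `U` fixed by the twisting automorphism -/
theorem pos_fixed (hK : Fintype.card K = 2 ^ (2 * m + 1)) (g : GL chevF4.Idx K)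
    (hg : g ∈ chevF4.posUnipotent K) (hf : g ∈ fixR hK) :
    ∃ p : Fin 12 → K, g = (hadd4 K).wordU (uw K m p) := by
  rw [← UL_eq_posUnipotent (K := K) ordL0] at hg
  obtain ⟨τ, rfl⟩ := exists_wordL (by simp) (hadd4 K) L0 ordL0.good g hg
  obtain ⟨hG, hfix⟩ := (mem_fixR hK _).1 hf
  have hlt : ∀ q ∈ wordL L0 τ, q.1 < chevF4.nroots := by
    intro q hq
    unfold wordL at hq
    rw [List.mem_map] at hq
    obtain ⟨r, hr, rfl⟩ := hq
    exact (ordL0.pos r hr).1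
  have h1 : (hadd4 K).wordU (sw K m (wordL L0 τ)) = (hadd4 K).wordU (wordL L0 τ) := by
    have := sg_wG hK (wordL L0 τ) hlt
    have e : sg hK (wG K (wordL L0 τ)) = wG K (wordL L0 τ) := hfix
    rw [this] at e
    exact congrArg Subtype.val e
  rw [wordL_L0, wordU_sw_gw] at h1
  have h2 := word_eq_of_fst ordL0 L0_nodup _ _ (gwImg_fst τ) (gw_fst τ) h1
  unfold gwImg gw PairSide.w2 B2Side.w4 at h2
  simp only [List.cons_append, List.nil_append, List.cons.injEq, Prod.mk.injEq, true_and,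
    and_true] at h2
  obtain ⟨a33, -, a34, a26, a36, a42, a38, -, a29, a41, a44, a47, a39, -, a35, a31, a40, a46,
    a37, -, a27, a25, a28, a30⟩ := h2
  refine ⟨![τ 24, τ 26, ph1 K m (τ 42), τ 43, τ 41, ph1 K m (τ 47), τ 45, τ 31, ph1 K m (τ 46),
    τ 32, τ 25, ph1 K m (τ 30)], ?_⟩
  rw [wordL_L0]
  congr 1
  unfold gw uw PairSide.rw B2Side.rw
  simp only [Matrix.cons_val_zero, Matrix.cons_val_one, Matrix.cons_val]
  have e34 : ph2 K m (τ 34) = τ 26 := by rw [← a34, ph2_ph1 hK]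
  have e29 : ph2 K m (τ 29) = τ 41 := by rw [← a29, ph2_ph1 hK]
  have e35 : ph2 K m (τ 35) = τ 31 := by rw [← a35, ph2_ph1 hK]
  have e27 : ph2 K m (τ 27) = τ 25 := by rw [← a27, ph2_ph1 hK]
  rw [e34] at a36
  rw [e29] at a44
  rw [e35] at a40
  rw [e27] at a28
  rw [ph2_ph1 hK, ph2_ph1 hK, ph2_ph1 hK, ph2_ph1 hK, ← a33, ← a34, ← a36, ← a38, ← a29, ← a44,
    ← a39, ← a35, ← a40, ← a37, ← a27, ← a28]

end

end Cfsg.Agent.Lib.Helper8.F4T
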